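import Cfsg.Agent.SimpleFacts.TwistedSubfield.Reduce

/-!
An overgroup of the fixed points with a non-fixed short root parameter is the whole twisted group.
-/

set_option autoImplicit false
set_option linter.unusedSectionVars false

namespace Cfsg.Agent.SimpleFacts.TwistedSubfield

open Cfsg.Lie Cfsg.Agent.Chevalley Cfsg.Agent.Chevalley.Table Cfsg.Agent.Chevalley.Cert
  Cfsg.Agent.Chevalley.Group Cfsg.Agent.Chevalley.Unip Cfsg.Agent.Chevalley.Borel
  Cfsg.Agent.Chevalley.Weyl Cfsg.Agent.Chevalley.FieldAut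
  Cfsg.Agent.SimpleFacts.ChevalleySubfield Cfsg.Agent.SimpleFacts.SubfieldOvergroup
  Cfsg.Agent.Chevalley.Twist Cfsg.Agent.Chevalley.Twist.E6

theorem gen_facts : wL chevE6 (lw [2, 3]) 42 = 56 ∧ wL chevE6 (lw [2, 3]) 37 = 36 ∧
    wL chevE6 (lw [2, 3, 2]) 42 = 15 ∧ wL chevE6 (lw [2, 3, 2]) 37 = 35 ∧
    wL chevE6 (lw [2]) 42 = 29 ∧ wL chevE6 (lw [2]) 37 = 34 ∧
    (∀ p ∈ [(42, 37), (56, 36), (15, 35), (29, 34)], p.1 < 72 ∧ p.2 < 72 ∧ gr p.1 = p.2 ∧ p.1 ≠ p.2) ∧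
    (∀ r ∈ [46, 25, 39, 32], r < 72 ∧ gr r = r) ∧
    chevE6.commTerms 42 37 = [] ∧ 37 ≠ chevE6.neg 42 ∧
    chevE6.cartan 3 42 = -1 ∧ chevE6.cartan 3 37 = -1 ∧ chevE6.simple 3 = 39 ∧
    (∀ i < 6, cor chevE6 39 i = if i = 3 then 1 else 0) ∧ nodePi L 3 = 3 := by
  decide +kernel

variable {K : Type*} [Field K]

local notation "Xr" => xg (F := K) hC

theorem Bel_add (θ : K →+* K) (s t : K) : Bel θ s * Bel θ t = Bel θ (s + t) := by
  obtain ⟨-, -, -, -, -, -, -, -, hc, hn, -⟩ := gen_facts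
  have e : Commute (Xr 42 t) (Xr 37 (θ s)) :=
    xg_commute_of_nil (by norm_num) (by norm_num) (by norm_num) hn hc t (θ s)
  rw [Bel, Bel, Bel, map_add, xg_add hC 42, xg_add hC 37]
  calc Xr 42 s * Xr 37 (θ s) * (Xr 42 t * Xr 37 (θ t))
      = Xr 42 s * (Xr 37 (θ s) * Xr 42 t) * Xr 37 (θ t) := by group
    _ = _ := by rw [← e.eq]; group

theorem Bel_zero (θ : K →+* K) : Bel θ (0 : K) = 1 := by
  rw [Bel, map_zero, xg_zero hC, xg_zero hC, one_mul]

variable [Fintype K] {q : ℕ} {hK : Fintype.card K = q ^ 2}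
variable (X : Setup (K := K) hK) (θ : K →+* K) (hθ : ∀ t, θ t = t ^ q)
include X hθ

theorem wordGL_mem {w : List (ℕ × K)} (hw : w ∈ e6Words K q) : wordGL hC w ∈ twistedE6 K q := by
  rw [twistedE6, genSubgroup_eq hC]
  exact Subgroup.subset_closure ⟨w, hw, rfl⟩

theorem pair_gen_mem {a b : ℕ} (hab : (a, b) ∈ [(42, 37), (56, 36), (15, 35), (29, 34)]) (s : K) :
    Xr a s * Xr b (θ s) ∈ twistedE6 K q := by
  have h := wordGL_mem X θ hθ (w := [(a, s), (b, s ^ q)]) (Or.inr ⟨s, (a, b), by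
    simp only [e6p1, e6p6, e6m1, e6m6, e6p3, e6p5, e6m3, e6m5, List.mem_cons, List.not_mem_nil,
      or_false] at hab ⊢
    tauto, rfl⟩)
  simpa [wordGL, hθ] using h

theorem Bel_mem (t : K) : Bel θ t ∈ twistedE6 K q :=
  pair_gen_mem X θ hθ List.mem_cons_self t

/-- The second parameter of a pair in the twisted group is determined by the first. -/
theorem pair_unique {a b : ℕ} (hab : (a, b) ∈ [(42, 37), (56, 36), (15, 35), (29, 34)]) {s u : K}
    (h : Xr a s * Xr b u ∈ twistedE6 K q) : u = θ s := by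
  obtain ⟨-, -, -, -, -, -, hp, -⟩ := gen_facts
  obtain ⟨ha, hb, hg, hne⟩ := hp _ hab
  have h' := mul_mem (inv_mem (pair_gen_mem X θ hθ hab s)) h
  have e : (Xr a s * Xr b (θ s))⁻¹ * (Xr a s * Xr b u) = Xr b (u - θ s) := by
    rw [sub_eq_neg_add, xg_add hC b, ← xg_inv hC]; group
  rw [e, ← Fx_twisted X, mem_Fx] at h'
  have hgb : gr b = a := by
    simp only at hg
    rw [← hg, (act_facts X θ hθ a (lt72 ha)).1]
  have h2 := img_xg X.S (lt72 hb) (u - θ s)
  rw [ρ_eq_gr X, hgb] at h2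
  by_contra hu
  exact hne (Weight.xg_eq_xg hC (lt72 hb) (lt72 ha) (sub_ne_zero.2 hu) (h'.unique h2)).symm

variable {H : Subgroup (GL chevE6.Idx K)} (hH : Over θ q H)
include hH

theorem Bel_fixed_mem {t : K} (ht : θ t = t) : Bel θ t ∈ H :=
  hH.fixed_mem _ (Bel_mem X θ hθ t)
    (Fixed.mul θ (fixed_xg hC θ ht) (fixed_xg hC θ (by rw [ht, ht])))

theorem Bel_scale_mem {s t : K} (hs : θ s = s) (h : Bel θ t ∈ H) : Bel θ (s * t) ∈ H := by
  by_cases hs0 : s = 0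
  · rw [hs0, zero_mul, Bel_zero]; exact one_mem _
  obtain ⟨-, -, -, -, -, -, -, -, -, -, c42, c37, s3, hcor, hπ⟩ := gen_facts
  obtain ⟨u, hu⟩ : ∃ u : Kˣ, (u : K) = s⁻¹ := ⟨Units.mk0 _ (inv_ne_zero hs0), rfl⟩
  obtain ⟨τ, hτ⟩ : ∃ τ : GL chevE6.Idx K, τ = hg hC (chevE6.simple 3) (u : K) := ⟨_, rfl⟩
  have h3 : (3 : ℕ) < chevE6.rank := by decide +kernel
  have huf : θ (u : K) = u := by rw [hu, map_inv₀, hs]
  have hom3 : ∀ c : K, θ c = c → X.S.hom 3 c = c := fun c hc => by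
    rw [X.hom_eq 3 (by norm_num), ← hθ, hc]
  have hπ3 : X.S.π 3 = 3 := by rw [X.π_eq]; exact hπ
  have hτG : τ ∈ twistedE6 K q := by
    rw [← Fx_twisted X, mem_Fx, hτ]
    have h1 := (img_ng_simple X.S h3 (u : K)).mul (img_ng_simple X.S h3 (-1))
    rw [hπ3, hom3 _ huf, hom3 (-1) (by rw [map_neg, map_one])] at h1
    exact h1
  have hτf : Fixed chevE6 θ τ := by
    rw [hτ, hg, ng, ng]
    have hm1 : θ (-1 : K) = -1 := by rw [map_neg, map_one]
    have hi : θ (-(-1 : K)⁻¹) = -(-1 : K)⁻¹ := by rw [map_neg, map_inv₀, hm1]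
    have hiu : θ (-(u : K)⁻¹) = -(u : K)⁻¹ := by rw [map_neg, map_inv₀, huf]
    exact Fixed.mul θ
      (Fixed.mul θ (Fixed.mul θ (fixed_xg hC θ huf) (fixed_xg hC θ hiu)) (fixed_xg hC θ huf))
      (Fixed.mul θ (Fixed.mul θ (fixed_xg hC θ hm1) (fixed_xg hC θ hi)) (fixed_xg hC θ hm1))
  have hchar : ∀ r < 72, chevE6.cartan 3 r = -1 →
      ∀ x : K, τ * Xr r x * τ⁻¹ = Xr r (s * x) := by
    intro r hr hc x
    rw [hτ, hg_eq_tor hC (hC.simple_lt h3), s3, tor_conj_x hC _ _ _ (lt72 hr)]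
    congr 2
    rw [torChar, Finset.prod_eq_single 3]
    · rw [hcor 3 (by norm_num), if_pos rfl, zpow_one, hc, zpow_neg_one, Units.val_inv_eq_inv_val, hu,
        inv_inv]
    · intro i hi hne
      rw [hcor i (Finset.mem_range.1 hi |>.trans_eq rank_eq), if_neg hne, zpow_zero, one_zpow]
    · exact fun hn => absurd (Finset.mem_range.2 h3) hn
  have e : τ * Bel θ t * τ⁻¹ = Bel θ (s * t) := by
    rw [Bel, Bel, map_mul, hs, ← hchar 42 (by norm_num) c42, ← hchar 37 (by norm_num) c37]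
    group
  exact e ▸ conj_mem (hH.fixed_mem τ hτG hτf) h

theorem eq_or_param (hne : H ≠ twistedE6 K q) {t : K} (h : Bel θ t ∈ H) : θ t = t := by
  by_contra ht
  have hall : ∀ x : K, Bel θ x ∈ H := by
    intro x
    obtain ⟨β, hβ⟩ : ∃ β, β = (θ x - x) / (θ t - t) := ⟨_, rfl⟩
    have h2 := theta2 θ hθ hK
    have hd : θ t - t ≠ 0 := sub_ne_zero.2 ht
    have hβf : θ β = β := by
      rw [hβ, map_div₀, map_sub, map_sub, h2, h2, ← neg_sub (θ x), ← neg_sub (θ t), neg_div_neg_eq]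
    have hαf : θ (x - β * t) = x - β * t := by
      have e : β * (θ t - t) = θ x - x := by rw [hβ, div_mul_cancel₀ _ hd]
      rw [map_sub, map_mul, hβf]
      linear_combination -e
    rw [← sub_add_cancel x (β * t), ← Bel_add]
    exact mul_mem (Bel_fixed_mem X θ hθ hH hαf) (Bel_scale_mem X θ hθ hH hβf h)
  obtain ⟨v56, v36, v15, v35, v29, v34, hp, hlong, -⟩ := gen_facts
  have hpair : ∀ {a b : ℕ} (_ : (a, b) ∈ [(42, 37), (56, 36), (15, 35), (29, 34)]) (l : List ℕ)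
      (_ : ∀ i ∈ l, i < 4) (_ : wL chevE6 (lw l) 42 = a) (_ : wL chevE6 (lw l) 37 = b) (s : K),
      Xr a s * Xr b (θ s) ∈ H := by
    intro a b hab l hl ha hb s
    obtain ⟨η, hη, -, e⟩ := nM_conj (K := K) θ l (r := 42) (by norm_num)
    obtain ⟨η', -, -, e'⟩ := nM_conj (K := K) θ l (r := 37) (by norm_num)
    rw [ha] at e; rw [hb] at e'
    have h1 := conj_mem (hH.fixed_mem _ (nM_mem X hl) (nM_fixed θ l)) (hall (η⁻¹ * s))
    rw [show nM K l * Bel θ (η⁻¹ * s) * (nM K l)⁻¹ = nM K l * Xr 42 (η⁻¹ * s) * (nM K l)⁻¹ *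
      (nM K l * Xr 37 (θ (η⁻¹ * s)) * (nM K l)⁻¹) by group, e, e', mul_inv_cancel_left₀ hη] at h1
    rwa [pair_unique X θ hθ hab (hH.le h1)] at h1
  refine hne (le_antisymm hH.le ?_)
  rw [twistedE6, genSubgroup_eq hC, Subgroup.closure_le]
  rintro g ⟨w, hw, rfl⟩
  rcases hw with ⟨s, hs, r, hr, rfl⟩ | ⟨s, rs, hrs, rfl⟩
  · have hr' : r ∈ [46, 25, 39, 32] := hr
    have hsf : θ s = s := by rw [hθ]; exact hs
    obtain ⟨hlt, hgr⟩ := hlong r hr'
    have hmem := hH.fixed_mem _ ((long_iff X θ hθ hlt hgr s).2 hsf) (fixed_xg hC θ hsf)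
    simpa [wordGL] using hmem
  · have hmem : Xr rs.1 s * Xr rs.2 (θ s) ∈ H := by
      simp only [List.mem_cons, List.not_mem_nil, or_false] at hrs
      rcases hrs with rfl | rfl | rfl | rfl
      · exact hpair (a := 56) (b := 36) (by simp) [2, 3] (by decide) v56 v36 s
      · exact hpair (a := 15) (b := 35) (by simp) [2, 3, 2] (by decide) v15 v35 s
      · exact hpair (a := 42) (b := 37) (by simp) [] (by decide) rfl rfl s
      · exact hpair (a := 29) (b := 34) (by simp) [2] (by decide) v29 v34 s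
    simpa [wordGL, hθ] using hmem

omit X hH in
theorem exists_not_fixed (hq : IsPrimePow q) (hK' : Fintype.card K = q ^ 2)
    (Y : Setup (K := K) hK) : ∃ g ∈ twistedE6 K q, ¬ Fixed chevE6 θ g := by
  classical
  obtain ⟨t, ht⟩ : ∃ t : K, θ t ≠ t := by
    by_contra hcon
    push Not at hcon
    obtain ⟨g, hg⟩ := IsCyclic.exists_generator (α := Kˣ)
    have ho : orderOf g = q ^ 2 - 1 := by
      rw [orderOf_eq_card_of_forall_mem_zpowers hg, Nat.card_eq_fintype_card, Fintype.card_units, hK']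
    have hg1 : g ^ (q - 1) = 1 := by
      have h := hcon (g : K)
      rw [hθ] at h
      apply Units.ext
      rw [Units.val_pow_eq_pow_val, Units.val_one]
      refine mul_right_cancel₀ g.ne_zero ?_
      rw [← pow_succ, Nat.sub_add_cancel hq.one_lt.le, h, one_mul]
    have hle := Nat.le_of_dvd (by have := hq.two_le; omega) (orderOf_dvd_of_pow_eq_one hg1)
    rw [ho] at hle
    have h2 := hq.two_le
    have hlt : q < q ^ 2 := by rw [sq]; exact lt_mul_of_one_lt_left (by omega) hq.one_lt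
    omega
  refine ⟨Bel θ t, Bel_mem Y θ hθ t, fun h => ht ?_⟩
  rw [Fixed, Bel, map_mul, map_xg hC θ, map_xg hC θ] at h
  obtain ⟨-, -, -, -, -, -, -, -, hc, hn, -⟩ := gen_facts
  have hcm : ∀ s u : K, Commute (Xr 42 s) (Xr 37 u) := fun s u =>
    xg_commute_of_nil (by norm_num) (by norm_num) (by norm_num) hn hc s u
  rw [(hcm _ _).eq, (hcm t _).eq] at h
  have e : prodX hC [37, 42] (fun r => if r = 37 then θ (θ t) else θ t) =
      prodX hC [37, 42] (fun r => if r = 37 then θ t else t) := by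
    simpa [prodX] using h
  have hp : ∀ r ∈ [37, 42], r < 72 ∧ 0 < Data.E6.tab.phi r := by decide +kernel
  simpa using prodX_inj (F := K) hC (L := [37, 42]) (by decide)
    (fun r hr => ⟨lt72 (hp r hr).1, (hp r hr).2⟩) e 42 (by simp)

end Cfsg.Agent.SimpleFacts.TwistedSubfield
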