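import Cfsg.Agent.SimpleFacts.TwistedSubfield.LongFixed
import Cfsg.Agent.SimpleFacts.TwistedSubfield.Param

/-!
A proper overgroup of the fixed points in the twisted group consists of fixed elements.
-/

set_option autoImplicit false
set_option linter.unusedSectionVars false

namespace Cfsg.Agent.SimpleFacts.TwistedSubfield

open Cfsg.Lie Cfsg.Agent.Chevalley Cfsg.Agent.Chevalley.Table Cfsg.Agent.Chevalley.Cert
  Cfsg.Agent.Chevalley.Group Cfsg.Agent.Chevalley.Unip Cfsg.Agent.Chevalley.Borel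
  Cfsg.Agent.Chevalley.Weyl Cfsg.Agent.Chevalley.Bruhat Cfsg.Agent.Chevalley.NormalForm
  Cfsg.Agent.Chevalley.FieldAut Cfsg.Agent.SimpleFacts.ChevalleySubfield
  Cfsg.Agent.SimpleFacts.SubfieldOvergroup
  Cfsg.Agent.Chevalley.Twist Cfsg.Agent.Chevalley.Twist.E6

theorem rigid_facts : (∀ a ∈ top, a < 4) ∧
    (∀ r < 72, 0 < Data.E6.tab.phi r → Data.E6.tab.phi (wL chevE6 (lw top) r) < 0) ∧
    chevE6.simple 0 = 56 ∧ chevE6.simple 1 = 46 ∧ chevE6.simple 2 = 42 ∧ chevE6.simple 3 = 39 ∧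
    chevE6.simple 4 = 37 ∧ chevE6.simple 5 = 36 ∧
    chevE6.commTerms 56 36 = [] ∧ 36 ≠ chevE6.neg 56 ∧ gr 39 = 39 := by
  decide +kernel

variable {K : Type*} [Field K]

local notation "Xr" => xg (F := K) hC

/-- All conjugates by the subgroup are fixed. -/
def PFix (θ : K →+* K) (H : Subgroup (GL chevE6.Idx K)) (x : GL chevE6.Idx K) : Prop :=
  ∀ g ∈ H, Fixed chevE6 θ (g * x * g⁻¹)

theorem PFix.mul {θ : K →+* K} {H : Subgroup (GL chevE6.Idx K)} {x y : GL chevE6.Idx K}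
    (hx : PFix θ H x) (hy : PFix θ H y) : PFix θ H (x * y) := fun g hg => by
  rw [show g * (x * y) * g⁻¹ = g * x * g⁻¹ * (g * y * g⁻¹) by group]
  exact Fixed.mul θ (hx g hg) (hy g hg)

theorem PFix.inv {θ : K →+* K} {H : Subgroup (GL chevE6.Idx K)} {x : GL chevE6.Idx K}
    (hx : PFix θ H x) : PFix θ H x⁻¹ := fun g hg => by
  rw [← conj_inv]
  exact Fixed.inv θ (hx g hg)

theorem PFix.conj {θ : K →+* K} {H : Subgroup (GL chevE6.Idx K)} {x m : GL chevE6.Idx K}
    (hx : PFix θ H x) (hm : m ∈ H) : PFix θ H (m * x * m⁻¹) := fun g hg => by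
  rw [show g * (m * x * m⁻¹) * g⁻¹ = g * m * x * (g * m)⁻¹ by group]
  exact hx _ (mul_mem hg hm)

/-- A root element of a fundamental root with nonzero parameter is outside the complement. -/
theorem eq_zero_of_mem_Uom {i : ℕ} (hi : i < chevE6.rank) {a : K}
    (h : Xr (chevE6.simple i) a ∈ Uom hC K (chevE6.simple i)) : a = 0 := by
  have hp := hC.simple_lt hi
  have h3 := Uom_le_U hC _
    ((Subgroup.mem_normalizer_iff.1 (ng_normalizes_Uom (F := K) hC hi) _).1 h)
  obtain ⟨η, hη, hηd⟩ := eta_field (F := K) (i := i) (r := chevE6.simple i) hC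
  rw [ng_conj_x hC hi hp, hC.reflect_simple hi, ← hηd] at h3
  have h4 : Xr (chevE6.neg (chevE6.simple i)) (η * a) ∈ chevE6.negUnipotent K :=
    xg_mem_V hC (hC.neg_lt hp) (by rw [hC.phi_neg hp]; have := hC.phi_simple hi; omega) _
  have h5 := Unip.U_inf_V hC h3 h4
  rw [← xg_zero hC (chevE6.neg (chevE6.simple i))] at h5
  exact (mul_eq_zero.1 (xg_injective hC (hC.neg_lt hp) h5)).resolve_left hη

/-- A fundamental root element times a commuting element of the complement. -/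
def Wit (i : ℕ) (a : K) (y : GL chevE6.Idx K) : Prop :=
  a ≠ 0 ∧ y ∈ Uom hC K (chevE6.simple i) ∧ (∀ s : K, Commute (Xr (chevE6.simple i) s) y) ∧
    ∀ c : ℕ → Kˣ, tor chevE6 c * y * (tor chevE6 c)⁻¹ ∈ Uom hC K (chevE6.simple i)

theorem wit_single {i : ℕ} {a : K} (ha : a ≠ 0) : Wit i a (1 : GL chevE6.Idx K) :=
  ⟨ha, one_mem _, fun _ => Commute.one_right _, fun c => by simp⟩

theorem wit_pair {i s : ℕ} (hi : i < chevE6.rank) (hs : s < 72) (hp : 0 < Data.E6.tab.phi s)
    (hne : s ≠ chevE6.simple i) (hn : s ≠ chevE6.neg (chevE6.simple i))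
    (hc : chevE6.commTerms (chevE6.simple i) s = []) {a : K} (ha : a ≠ 0) (b : K) :
    Wit i a (Xr s b) := by
  have hmem : ∀ b : K, Xr s b ∈ Uom hC K (chevE6.simple i) := fun b =>
    Subgroup.subset_closure ⟨s, b, lt72 hs, ⟨hp, hne⟩, rfl⟩
  refine ⟨ha, hmem b, fun u => xg_commute_of_nil (nroots_eq ▸ hC.simple_lt hi) hs hne hn hc u b,
    fun c => ?_⟩
  rw [tor_conj_x hC _ _ _ (lt72 hs)]
  exact hmem _

/-- An element of the group commuting with a witness for each fundamental root lies in `B`. -/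
theorem mem_B_of_comm {g : GL chevE6.Idx K} (hg : g ∈ chevE6.group K)
    (hw : ∀ i < chevE6.rank, ∃ (a : K) (y : GL chevE6.Idx K), Wit i a y ∧
      Commute g (Xr (chevE6.simple i) a * y)) : g ∈ chevE6.borelSubgroup K := by
  obtain ⟨b, hb, n, hn, u, hu, rfl⟩ := exists_form hC hg
  obtain ⟨c, L, hL, rfl⟩ := (mem_N_iff hC).1 hn
  have huU : u ∈ chevE6.posUnipotent K := Uminus_le_U hC _ hu
  have hpos : ∀ i < chevE6.rank, 0 < Data.E6.tab.phi (wL chevE6 L (chevE6.simple i)) := by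
    intro i hi
    by_contra hcon
    have hp := hC.simple_lt hi
    have hneg : Data.E6.tab.phi (wL chevE6 L (chevE6.simple i)) < 0 := by
      have := hC.phi_ne_zero (wL_lt hC hL hp); omega
    obtain ⟨a, y, ⟨ha, hy, hyc, -⟩, hcx⟩ := hw i hi
    obtain ⟨x, hxd⟩ : ∃ x : GL chevE6.Idx K, x = Xr (chevE6.simple i) a * y := ⟨_, rfl⟩
    rw [← hxd] at hcx
    have hxU : x ∈ chevE6.posUnipotent K :=
      hxd ▸ mul_mem (xg_mem_U hC hp (hC.phi_simple hi) a) (Uom_le_U hC _ hy)
    obtain ⟨v, w, hv, hw', huv⟩ := U_decomp hC hL c (mul_mem huU hxU)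
    have e : b * (tor chevE6 c * nL hC K L * v * (tor chevE6 c * nL hC K L)⁻¹) *
        (tor chevE6 c * nL hC K L) * w = x * b * (tor chevE6 c * nL hC K L) * u :=
      calc _ = b * (tor chevE6 c * nL hC K L) * (v * w) := by group
        _ = b * (tor chevE6 c * nL hC K L) * (u * x) := by rw [huv]
        _ = b * (tor chevE6 c * nL hC K L) * u * x := by group
        _ = x * (b * (tor chevE6 c * nL hC K L) * u) := hcx
        _ = _ := by group
    obtain ⟨-, rfl⟩ := (unique_form hC (mul_mem hb (Subgroup.mem_sup_left hv))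
      (mul_mem (Subgroup.mem_sup_left hxU) hb) hn hn hw' hu e).2 rfl
    have hvU : v ∈ chevE6.posUnipotent K := by
      have : v = w * x * w⁻¹ := by rw [huv]; group
      rw [this]; exact mul_mem (mul_mem huU hxU) (inv_mem huU)
    -- `v` has no component at `simple i`
    have hvO : v ∈ Uom hC K (chevE6.simple i) := by
      rw [← Uge_zero hC] at hvU
      obtain ⟨f, hf⟩ :=
        split_decomp hC (fun r => decide (0 < Data.E6.tab.phi (wL chevE6 L r))) 0 v hvU
      obtain ⟨A, hAd⟩ : ∃ A : GL chevE6.Idx K, A = prodX hC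
          ((posFrom chevE6 0).filter fun r => decide (0 < Data.E6.tab.phi (wL chevE6 L r))) f :=
        ⟨_, rfl⟩
      rw [← hAd] at hf
      have hA : A ∈ Uom hC K (chevE6.simple i) ∧
          tor chevE6 c * nL hC K L * A * (tor chevE6 c * nL hC K L)⁻¹ ∈ chevE6.posUnipotent K := by
        rw [hAd]
        change prodX hC
            ((posFrom chevE6 0).filter fun r => decide (0 < Data.E6.tab.phi (wL chevE6 L r))) f ∈
          Uom hC K (chevE6.simple i) ⊓
            (chevE6.posUnipotent K).comap (MulAut.conj (tor chevE6 c * nL hC K L)).toMonoidHom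
        refine list_prod_mem fun z hz => ?_
        obtain ⟨r, hr, rfl⟩ := List.mem_map.1 hz
        obtain ⟨hr', hq⟩ := List.mem_filter.1 hr
        obtain ⟨hlt, hp', -⟩ := (mem_posFrom hC).1 hr'
        have hq' := of_decide_eq_true hq
        obtain ⟨η, -, eη⟩ := conj_xg (F := K) hC hL c hlt
        refine ⟨Subgroup.subset_closure ⟨r, _, hlt, ⟨hp', ?_⟩, rfl⟩, ?_⟩
        · rintro rfl; omega
        · show tor chevE6 c * nL hC K L * Xr r (f r) * (tor chevE6 c * nL hC K L)⁻¹ ∈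
            chevE6.posUnipotent K
          rw [eη]
          exact xg_mem_U hC (wL_lt hC hL hlt) hq' _
      obtain ⟨B', hBd, hB'⟩ : ∃ B' : GL chevE6.Idx K, v = A * B' ∧
          B' ∈ Uminus chevE6 K (tor chevE6 c * nL hC K L) := by
        refine ⟨_, hf, ?_⟩
        rw [Uminus_eq hC hL c]
        refine list_prod_mem fun z hz => ?_
        obtain ⟨r, hr, rfl⟩ := List.mem_map.1 hz
        obtain ⟨hr', hq⟩ := List.mem_filter.1 (List.mem_reverse.1 hr)
        obtain ⟨hlt, hp', -⟩ := (mem_posFrom hC).1 hr'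
        refine Subgroup.subset_closure ⟨r, _, (mem_invList hC).2 ⟨hlt, hp', ?_⟩, rfl⟩
        have := hC.phi_ne_zero (wL_lt hC hL hlt)
        simp only [Bool.not_eq_true', decide_eq_false_iff_not] at hq
        omega
      have h1 : tor chevE6 c * nL hC K L * B' * (tor chevE6 c * nL hC K L)⁻¹ = 1 := by
        refine Unip.U_inf_V hC ?_ (conj_Uminus hC hB')
        have : tor chevE6 c * nL hC K L * B' * (tor chevE6 c * nL hC K L)⁻¹ =
            (tor chevE6 c * nL hC K L * A * (tor chevE6 c * nL hC K L)⁻¹)⁻¹ *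
              (tor chevE6 c * nL hC K L * v * (tor chevE6 c * nL hC K L)⁻¹) := by
          rw [hBd]; group
        rw [this]
        exact mul_mem (inv_mem hA.2) hv
      rw [mul_inv_eq_one, mul_eq_left] at h1
      rw [hBd, h1, mul_one]
      exact hA.1
    obtain ⟨v0, hv0, s, hs⟩ := U_split hC hp (hC.phi_simple hi) huU
    have hcomm : Commute (Xr (chevE6.simple i) s) x := by
      rw [hxd]
      refine Commute.mul_right ?_ (hyc s)
      exact (xg_add hC _ s a).symm.trans (by rw [add_comm, xg_add hC])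
    have hxN : x ∈ Subgroup.normalizer (Uom hC K (chevE6.simple i) : Set (GL chevE6.Idx K)) :=
      hxd ▸ mul_mem (xg_normalizes_Uom hC hi a) (Subgroup.le_normalizer hy)
    have hxO : x ∈ Uom hC K (chevE6.simple i) := by
      have e1 : v = v0 * (x * v0⁻¹ * x⁻¹) * x :=
        calc v = w * x * w⁻¹ := by rw [huv]; group
          _ = v0 * (Xr (chevE6.simple i) s * x) * (Xr (chevE6.simple i) s)⁻¹ * v0⁻¹ := by
            rw [hs]; group
          _ = _ := by rw [hcomm.eq]; group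
      have h2 : x * v0⁻¹ * x⁻¹ ∈ Uom hC K (chevE6.simple i) :=
        (Subgroup.mem_normalizer_iff.1 hxN _).1 (inv_mem hv0)
      have e2 : x = (v0 * (x * v0⁻¹ * x⁻¹))⁻¹ * v := by
        conv_rhs => rw [e1]
        group
      rw [e2]
      exact mul_mem (inv_mem (mul_mem hv0 h2)) hvO
    rw [hxd, Subgroup.mul_mem_cancel_right _ hy] at hxO
    exact ha (eq_zero_of_mem_Uom hi hxO)
  obtain ⟨d, hd⟩ := exists_tor_of_pos (F := K) hC hL hpos
  rw [hd]
  exact mul_mem (mul_mem hb (mul_mem (Subgroup.mem_sup_right (tor_mem_H hC c))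
    (Subgroup.mem_sup_right (tor_mem_H hC d)))) (Subgroup.mem_sup_left huU)

/-- A torus element commuting with a witness for each fundamental root is trivial. -/
theorem tor_eq_one_of_comm {c : ℕ → Kˣ}
    (hw : ∀ i < chevE6.rank, ∃ (a : K) (y : GL chevE6.Idx K), Wit i a y ∧
      Commute (tor chevE6 c) (Xr (chevE6.simple i) a * y)) : tor chevE6 c = 1 := by
  have hs : ∀ i < chevE6.rank, torChar chevE6 c (chevE6.simple i) = 1 := by
    intro i hi
    obtain ⟨a, y, ⟨ha, hy, -, hyt⟩, hcx⟩ := hw i hi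
    obtain ⟨χ, hχ⟩ : ∃ χ : K, χ = (torChar chevE6 c (chevE6.simple i) : K) := ⟨_, rfl⟩
    have e : Xr (chevE6.simple i) (χ * a) * (tor chevE6 c * y * (tor chevE6 c)⁻¹) =
        Xr (chevE6.simple i) a * y := by
      rw [hχ, ← tor_conj_x hC c _ a (hC.simple_lt hi)]
      calc _ = tor chevE6 c * (Xr (chevE6.simple i) a * y) * (tor chevE6 c)⁻¹ := by group
        _ = _ := by rw [hcx.eq, mul_inv_cancel_right]
    have h : Xr (chevE6.simple i) (χ * a - a) ∈ Uom hC K (chevE6.simple i) := by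
      rw [sub_eq_neg_add, xg_add hC, ← xg_inv hC, show (Xr (chevE6.simple i) a)⁻¹ *
        Xr (chevE6.simple i) (χ * a) = y * (tor chevE6 c * y * (tor chevE6 c)⁻¹)⁻¹ by
          rw [eq_mul_inv_iff_mul_eq, mul_assoc, e, inv_mul_cancel_left]]
      exact mul_mem hy (inv_mem (hyt c))
    have h0 := eq_zero_of_mem_Uom hi h
    rw [sub_eq_zero] at h0
    exact Units.ext (by rw [← hχ, Units.val_one]; exact mul_right_cancel₀ ha (h0.trans (one_mul a).symm))
  have hall : ∀ r < chevE6.nroots, torChar chevE6 c r = 1 := by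
    refine Root.simple_induction hC hs fun r hr i hi ih => ?_
    rw [TorusCard.torChar_reflect hC c hi hr, ih, hs i hi, one_zpow, one_mul]
  rw [tor, ← dg_one]
  exact dg_congr fun r hr => hall r hr

variable [Fintype K] {q : ℕ} {hK : Fintype.card K = q ^ 2}
variable (X : Setup (K := K) hK) (θ : K →+* K) (hθ : ∀ t, θ t = t ^ q)
variable {H : Subgroup (GL chevE6.Idx K)} (hH : Over θ q H)
variable (hV : ∀ t : K, Bel θ t ∈ H → θ t = t)
include X hθ hH hV

theorem pfix_long {r : ℕ} (hr : r < 72) (hg : gr r = r) {l : K} (hl : θ l = l) :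
    PFix θ H (Xr r l) :=
  fun _ hgH => long_conj_fixed X θ hθ hH hV hgH hr hg hl

theorem exists_pfix_Bel : ∃ u : K, u ≠ 0 ∧ θ u = u ∧ PFix θ H (Bel θ u) := by
  obtain ⟨e, he⟩ : ∃ e : K, e = X.S.act 48 1 := ⟨_, rfl⟩
  have h48 : (48 : ℕ) < 72 := by norm_num
  have g48 := pair_facts.2.2.2.2.2.1
  obtain ⟨hgg, e', hef, -, hact, hinv⟩ := act_facts X θ hθ 48 (lt72 h48)
  have hef' : θ e = e := by rw [he, hact, map_one, mul_one, hef]
  obtain ⟨hne, hn, hc⟩ := (radical_facts.2.2.2 48 (by simp)).resolve_left (by rw [g48]; norm_num)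
  rw [g48] at hne hn hc hgg
  have hP : Xr 48 (1 : K) * Xr 50 e ∈ twistedE6 K q := by
    rw [← Fx_twisted X, mem_Fx]
    have h1 := img_xg X.S (lt72 h48) (1 : K)
    have h3 := img_xg X.S (r := 50) (lt72 (by norm_num)) e
    rw [ρ_eq_gr X, g48, ← he] at h1
    rw [ρ_eq_gr X, hgg, show X.S.act 50 e = 1 by rw [he, ← g48]; exact hinv 1] at h3
    have h4 := h1.mul h3
    rwa [← (xg_commute_of_nil (K := K) h48 (by norm_num) hne.symm hn hc 1 e).eq] at h4
  obtain ⟨m, η, d, hm, hmf, hη, hηf, hd, eq⟩ :=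
    pair_to_bel X θ hθ hP (μ := 1) (map_one θ)
  have hPH : Xr 48 (1 : K) * Xr 50 e ∈ H :=
    hH.fixed_mem _ hP (Fixed.mul θ (fixed_xg hC θ (map_one θ)) (fixed_xg hC θ hef'))
  have h0 : PFix θ H (Xr 0 (1 : K)) :=
    pfix_long X θ hθ hH hV (by norm_num) radical_facts.2.2.1 (map_one θ)
  have hx := ((h0.inv.mul (h0.conj hPH)).conj (hH.fixed_mem m hm hmf)).mul
    (pfix_long X θ hθ hH hV (r := 69) (by norm_num) final_facts.2.2.2.2.2.2.2.1 hd).inv
  rw [eq, mul_inv_cancel_right] at hx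
  refine ⟨η * (-1 * 1), ?_, ?_, hx⟩
  · simp [hη]
  · simp [hηf]

theorem exists_pfix_wit : ∀ i < chevE6.rank, ∃ (a : K) (y : GL chevE6.Idx K), Wit i a y ∧
    PFix θ H (Xr (chevE6.simple i) a * y) := by
  obtain ⟨-, -, s0, s1, s2, s3, s4, s5, hc56, hn56, g39⟩ := rigid_facts
  obtain ⟨v56, v36, -, -, -, -, hp, -, hc42, hn42, -⟩ := gen_facts
  obtain ⟨u, hu, huf, hB⟩ := exists_pfix_Bel X θ hθ hH hV
  obtain ⟨η, hη, hηf, e⟩ := nM_conj (K := K) θ [2, 3] (r := 42) (by norm_num)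
  obtain ⟨η', hη', hη'f, e'⟩ := nM_conj (K := K) θ [2, 3] (r := 37) (by norm_num)
  rw [v56] at e; rw [v36] at e'
  have hl : ∀ a ∈ [2, 3], a < 4 := by decide
  have h56 := hB.conj (hH.fixed_mem _ (nM_mem X hl) (nM_fixed θ _))
  rw [show nM K [2, 3] * Bel θ u * (nM K [2, 3])⁻¹ = nM K [2, 3] * Xr 42 u * (nM K [2, 3])⁻¹ *
    (nM K [2, 3] * Xr 37 (θ u) * (nM K [2, 3])⁻¹) by group, e, e', huf] at h56
  have hB' : PFix θ H (Xr 37 u * Xr 42 u) := by
    rw [← (xg_commute_of_nil (K := K) (r := 42) (s := 37) (by norm_num) (by norm_num) (by norm_num)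
      hn42 hc42 u u).eq]
    simpa [Bel, huf] using hB
  have h56' : PFix θ H (Xr 36 (η' * u) * Xr 56 (η * u)) := by
    rw [← (xg_commute_of_nil (K := K) (r := 56) (s := 36) (by norm_num) (by norm_num) (by norm_num)
      hn56 hc56 (η * u) (η' * u)).eq]
    exact h56
  have hphi : ∀ r ∈ [36, 37, 42, 56], 0 < Data.E6.tab.phi r := by decide +kernel
  have hback : chevE6.commTerms 37 42 = [] ∧ 42 ≠ chevE6.neg 37 ∧ chevE6.commTerms 36 56 = [] ∧
      56 ≠ chevE6.neg 36 := by decide +kernel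
  intro i hi
  rw [rank_eq] at hi
  have hr : ∀ j < 6, j < chevE6.rank := fun j hj => by rw [rank_eq]; exact hj
  rcases (by omega : i = 0 ∨ i = 1 ∨ i = 2 ∨ i = 3 ∨ i = 4 ∨ i = 5) with
    rfl | rfl | rfl | rfl | rfl | rfl
  · exact ⟨η * u, _, wit_pair (hr 0 hi) (s := 36) (by norm_num) (hphi 36 (by simp))
      (by rw [s0]; norm_num) (by rw [s0]; exact hn56) (by rw [s0]; exact hc56) (mul_ne_zero hη hu)
      (η' * u), by rw [s0]; exact h56⟩
  · exact ⟨1, 1, wit_single one_ne_zero, by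
      rw [s1, mul_one]
      exact pfix_long X θ hθ hH hV (by norm_num) longWords_ok.2.2.2 (map_one θ)⟩
  · exact ⟨u, _, wit_pair (hr 2 hi) (s := 37) (by norm_num) (hphi 37 (by simp))
      (by rw [s2]; norm_num) (by rw [s2]; exact hn42) (by rw [s2]; exact hc42) hu u, by
      rw [s2]; simpa [Bel, huf] using hB⟩
  · exact ⟨1, 1, wit_single one_ne_zero, by
      rw [s3, mul_one]
      exact pfix_long X θ hθ hH hV (by norm_num) g39 (map_one θ)⟩
  · exact ⟨u, _, wit_pair (hr 4 hi) (s := 42) (by norm_num) (hphi 42 (by simp))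
      (by rw [s4]; norm_num) (by rw [s4]; exact hback.2.1) (by rw [s4]; exact hback.1) hu u, by
      rw [s4]; exact hB'⟩
  · exact ⟨η' * u, _, wit_pair (hr 5 hi) (s := 56) (by norm_num) (hphi 56 (by simp))
      (by rw [s5]; norm_num) (by rw [s5]; exact hback.2.2.2) (by rw [s5]; exact hback.2.2.1)
      (mul_ne_zero hη' hu) (η * u), by rw [s5]; exact h56'⟩

/-- Every element of the subgroup is fixed. -/
theorem fixed_of_param {g : GL chevE6.Idx K} (hg : g ∈ H) : Fixed chevE6 θ g := by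
  obtain ⟨htop, hneg, -⟩ := rigid_facts
  obtain ⟨d, hd_def⟩ : ∃ d, d = g⁻¹ * mapGL chevE6 θ g := ⟨_, rfl⟩
  have hgG : g ∈ chevE6.group K := Fx_le_group X.S (by rw [Fx_twisted X]; exact hH.le hg)
  have hd : d ∈ chevE6.group K :=
    hd_def ▸ mul_mem (inv_mem hgG) (map_mem_group θ hgG)
  have hcom : ∀ x, PFix θ H x → Commute d x := by
    intro x hx
    have h1 : Fixed chevE6 θ x := by simpa using hx 1 (one_mem H)
    have h2 := hx g hg
    rw [Fixed, map_mul, map_mul, map_inv, h1] at h2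
    rw [Commute, SemiconjBy, hd_def]
    calc g⁻¹ * mapGL chevE6 θ g * x
        = g⁻¹ * (mapGL chevE6 θ g * x * (mapGL chevE6 θ g)⁻¹) * mapGL chevE6 θ g := by group
      _ = _ := by rw [h2]; group
  obtain ⟨m, hm_def⟩ : ∃ m, m = nM K top := ⟨_, rfl⟩
  have hm : m ∈ H := hm_def ▸ hH.fixed_mem _ (nM_mem X htop) (nM_fixed θ _)
  have hwit := exists_pfix_wit X θ hθ hH hV
  have hdB : d ∈ chevE6.borelSubgroup K := mem_B_of_comm hd fun i hi => by
    obtain ⟨a, y, hw, hx⟩ := hwit i hi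
    exact ⟨a, y, hw, hcom _ hx⟩
  have hd'B : m * d * m⁻¹ ∈ chevE6.borelSubgroup K := by
    refine mem_B_of_comm (mul_mem (mul_mem ?_ hd) (inv_mem ?_)) fun i hi => ?_
    · exact Fx_le_group X.S (by rw [Fx_twisted X]; exact hH.le hm)
    · exact Fx_le_group X.S (by rw [Fx_twisted X]; exact hH.le hm)
    · obtain ⟨a, y, hw, hx⟩ := hwit i hi
      have h := hcom _ (hx.conj (inv_mem hm))
      rw [inv_inv] at h
      refine ⟨a, y, hw, ?_⟩
      have h' := congrArg (fun z => m * z * m⁻¹) h.eq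
      simpa [mul_assoc, Commute, SemiconjBy] using h'
  have hdH : d ∈ chevE6.diagonalSubgroup K := by
    obtain ⟨v, hv, k, hk, e⟩ := (mem_B_iff hC).1 hdB
    have hmN : m ∈ chevE6.monomialSubgroup K := hm_def ▸ nL_mem_N hC (lw_lt top)
    have hvm : v ∈ Uminus chevE6 K (tor chevE6 (1 : ℕ → Kˣ) * nL hC K (lw top)) := by
      refine Subgroup.closure_mono ?_ hv
      rintro x ⟨r, t, hr, hx⟩
      exact ⟨r, t, hr, (map_le_V_iff hC (lw_lt top) 1 hr.1).2
        (hneg r (lt_of_lt_of_eq hr.1 nroots_eq) ((hC.posRoot_iff hr.1).1 hr)), hx⟩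
    rw [tor_one, one_mul] at hvm
    have h1 : m * d * m⁻¹ ∈ chevE6.diagonalSubgroup K := by
      rw [← B_inf_VH hC]
      refine ⟨hd'B, ?_⟩
      rw [e, show m * (v * k) * m⁻¹ = m * v * m⁻¹ * (m * k * m⁻¹) by group]
      exact mul_mem (Subgroup.mem_sup_left (hm_def ▸ conj_Uminus hC hvm))
        (Subgroup.mem_sup_right (H_conj hC hmN hk))
    have h2 := H_conj hC (inv_mem hmN) h1
    simpa [mul_assoc] using h2
  obtain ⟨c, rfl⟩ := (mem_H_iff hC).1 hdH
  have hd1 : tor chevE6 c = 1 := tor_eq_one_of_comm fun i hi => by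
    obtain ⟨a, y, hw, hx⟩ := hwit i hi
    exact ⟨a, y, hw, hcom _ hx⟩
  rw [hd1] at hd_def
  exact (inv_mul_eq_one.1 hd_def.symm).symm

end Cfsg.Agent.SimpleFacts.TwistedSubfield
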