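import Cfsg.Agent.Lib.Chevalley.Twist.SimpleE6
import Cfsg.Agent.Lib.Chevalley.Twist.AutFrame
import Cfsg.Agent.SimpleFacts.SubfieldOvergroup.Basic

/-!
The twisted group of type E6 and the fixed points of the field map inside it: membership of root elements,
the action of the endomorphism on the root parameters, and the monomial elements of the fixed points.
-/

set_option autoImplicit false
set_option linter.unusedSectionVars false

namespace Cfsg.Agent.SimpleFacts.TwistedSubfield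

open Cfsg.Lie Cfsg.Agent.Chevalley Cfsg.Agent.Chevalley.Table Cfsg.Agent.Chevalley.Cert
  Cfsg.Agent.Chevalley.Group Cfsg.Agent.Chevalley.Unip Cfsg.Agent.Chevalley.Borel
  Cfsg.Agent.Chevalley.Weyl Cfsg.Agent.Chevalley.NormalForm Cfsg.Agent.Chevalley.FieldAut
  Cfsg.Agent.SimpleFacts.ChevalleySubfield Cfsg.Agent.SimpleFacts.SubfieldOvergroup
  Cfsg.Agent.Chevalley.Twist Cfsg.Agent.Chevalley.Twist.E6

/-- The graph permutation of the roots. -/
abbrev gr : ℕ → ℕ := Types.GAut.tabE6.ρ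

/-- A word of fundamental reflections from a word of orbits. -/
def lw (l : List ℕ) : List ℕ := l.flatMap fun a => Js.getD a []

theorem nroots_eq : chevE6.nroots = 72 := by decide +kernel

theorem rank_eq : chevE6.rank = 6 := by decide +kernel

theorem lt72 {r : ℕ} (h : r < 72) : r < chevE6.nroots := lt_of_lt_of_eq h nroots_eq.symm

theorem lw_lt : ∀ (l : List ℕ), ∀ i ∈ lw l, i < chevE6.rank := by
  intro l i hi
  obtain ⟨a, -, ha⟩ := List.mem_flatMap.1 hi
  have key : ∀ a < 4, ∀ i ∈ Js.getD a [], i < chevE6.rank := by decide +kernel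
  by_cases ha4 : a < 4
  · exact key a ha4 i ha
  · rw [List.getD_eq_default _ _ (by simpa using not_lt.1 ha4)] at ha
    simp at ha

theorem node_invol : ∀ i < chevE6.rank, nodePi L i < chevE6.rank ∧ nodePi L (nodePi L i) = i := by
  decide +kernel

theorem gr_simple_pair : gr (chevE6.simple 1) = chevE6.simple 1 ∧
    gr (chevE6.simple 3) = chevE6.simple 3 ∧ gr 42 = 37 ∧ gr 37 = 42 := by decide +kernel

variable {K : Type*} [Field K] [Fintype K] {q : ℕ} {hK : Fintype.card K = q ^ 2}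
variable (X : Setup (K := K) hK) (θ : K →+* K) (hθ : ∀ t, θ t = t ^ q)

local notation "Xr" => xg (F := K) hC

/-- The monomial element of a word of orbits. -/
noncomputable abbrev nM (K : Type*) [Field K] (l : List ℕ) : GL chevE6.Idx K := nL hC K (lw l)

include hθ in
theorem theta2 (hK' : Fintype.card K = q ^ 2) (t : K) : θ (θ t) = t := by
  rw [hθ, hθ, ← pow_mul, ← sq, ← hK', FiniteField.pow_card]

omit [Fintype K] in
theorem eta_fixed (i r : ℕ) : θ ((Data.E6.tab.eta i r : ℤ) : K) = (Data.E6.tab.eta i r : K) :=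
  map_intCast θ _

include X

theorem Fx_twisted : Fx X.S = twistedE6 K q := Fx_eq X.O X.gen

theorem hk4 {a : ℕ} (ha : a < 4) : a < X.O.k := by rw [X.k_eq]; exact ha

theorem nM_mem {l : List ℕ} (hl : ∀ a ∈ l, a < 4) : nM K l ∈ twistedE6 K q := by
  induction l with
  | nil => exact one_mem _
  | cons a l ih =>
    have h := nL_mem_K X.O X.gen X.π_eq (hOr X) (hk4 X (hl a List.mem_cons_self))
    rw [X.J_eq a] at h
    show nL hC K (lw (a :: l)) ∈ _
    rw [lw, List.flatMap_cons, nL_append]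
    exact mul_mem h (ih fun b hb => hl b (List.mem_cons_of_mem a hb))

omit X in
theorem nM_fixed (l : List ℕ) : Fixed chevE6 θ (nM K l) := map_nL hC θ _

omit X in
/-- Conjugation by a monomial element scales the parameter by a fixed scalar. -/
theorem nM_conj (l : List ℕ) {r : ℕ} (hr : r < 72) : ∃ η : K, η ≠ 0 ∧ θ η = η ∧
    ∀ t : K, nM K l * Xr r t * (nM K l)⁻¹ = Xr (wL chevE6 (lw l) r) (η * t) := by
  obtain ⟨η, hη, e⟩ := nL_conj_x (F := K) hC (lw_lt l) (lt72 hr)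
  refine ⟨η, hη, ?_, e⟩
  have h := congrArg (mapGL chevE6 θ) (e 1)
  rw [map_mul, map_mul, map_inv, map_nL hC θ, map_xg hC θ, map_one, e 1, map_xg hC θ, mul_one] at h
  exact (xg_injective hC (wL_lt hC (lw_lt l) (lt72 hr)) h).symm

theorem ρ_eq_gr (r : ℕ) : X.S.ρ r = gr r := by rw [X.ρ_eq]

include hθ in
/-- The endomorphism on the root parameters. -/
theorem act_facts : ∀ r < chevE6.nroots, gr (gr r) = r ∧ ∃ e : K, θ e = e ∧ e ≠ 0 ∧
    (∀ t, X.S.act r t = e * θ t) ∧ ∀ t, X.S.act (gr r) (X.S.act r t) = t := by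
  refine Root.simple_induction hC (fun i hi => ?_) fun r hr i hi ih => ?_
  · have hπ : ∀ j, X.S.π j = nodePi L j := fun j => by rw [X.π_eq]
    obtain ⟨hj, hji⟩ := node_invol i hi
    have e1 : gr (chevE6.simple i) = chevE6.simple (nodePi L i) := by
      rw [← ρ_eq_gr X, X.S.ρ_simple i hi, hπ]
    have e2 : gr (chevE6.simple (nodePi L i)) = chevE6.simple i := by
      rw [← ρ_eq_gr X, X.S.ρ_simple _ hj, hπ, hji]
    have hh : ∀ j < chevE6.rank, ∀ t, X.S.act (chevE6.simple j) t = θ t := fun j hj t => by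
      rw [X.S.act_simple j hj, hθ, X.hom_eq j (hj.trans_eq rank_eq)]
    refine ⟨by rw [e1, e2], 1, map_one θ, one_ne_zero, fun t => by rw [hh i hi, one_mul], fun t => ?_⟩
    rw [e1, hh i hi, hh _ hj, theta2 θ hθ hK]
  · obtain ⟨hrr, e, he, he0, hact, hinv⟩ := ih
    have hr' := hC.reflect_lt hi hr
    have hπi : X.S.π i < chevE6.rank := X.S.π_lt i hi
    have hπ2 : X.S.π (X.S.π i) = i := by rw [X.π_eq]; exact (node_invol i hi).2
    have hgr : gr r < chevE6.nroots := ρ_eq_gr X r ▸ X.S.ρ_lt r hr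
    have hρr : gr (chevE6.reflectRoot i r) = chevE6.reflectRoot (X.S.π i) (gr r) := by
      rw [← ρ_eq_gr X, ρ_reflect X.S hi hr, ρ_eq_gr X]
    have step : ∀ {j s : ℕ} (_ : j < chevE6.rank) (_ : s < chevE6.nroots) (t : K),
        X.S.act (chevE6.reflectRoot j s) ((Data.E6.tab.eta j s : K) * t) =
          (Data.E6.tab.eta (X.S.π j) (gr s) : K) * X.S.act s t := by
      intro j s hj hs t
      have h1 := ((img_n1 X.S hj).mul (img_xg X.S hs t)).mul (img_n1 X.S hj).inv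
      rw [ng_conj_x hC hj hs, ng_conj_x hC (X.S.π_lt j hj) (X.S.ρ_lt s hs), ρ_eq_gr X] at h1
      have h2 := (img_xg X.S (hC.reflect_lt hj hs) _).unique h1
      rw [ρ_reflect X.S hj hs, ρ_eq_gr X] at h2
      exact xg_injective hC (hC.reflect_lt (X.S.π_lt j hj) (ρ_eq_gr X s ▸ X.S.ρ_lt s hs)) h2
    obtain ⟨η, hη⟩ : ∃ η : K, η = (Data.E6.tab.eta i r : K) := ⟨_, rfl⟩
    obtain ⟨η', hη'⟩ : ∃ η' : K, η' = (Data.E6.tab.eta (X.S.π i) (gr r) : K) := ⟨_, rfl⟩
    have hsq : η * η = 1 := hη ▸ Root.eta_cast_sq i r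
    have hf : θ η = η := hη ▸ eta_fixed θ i r
    have hact' : ∀ t, X.S.act (chevE6.reflectRoot i r) t = η' * X.S.act r (η * t) := fun t => by
      have h := step hi hr (η * t)
      rw [← hη, ← hη', ← mul_assoc, hsq, one_mul] at h
      exact h
    refine ⟨?_, η' * e * η, ?_, ?_, fun t => ?_, fun t => ?_⟩
    · rw [hρr, ← ρ_eq_gr X, ρ_reflect X.S hπi hgr, hπ2, ρ_eq_gr X, hrr]
    · rw [map_mul, map_mul, he, hf, hη', eta_fixed θ]
    · refine mul_ne_zero (mul_ne_zero ?_ he0) (fun h => by rw [h, mul_zero] at hsq; exact zero_ne_one hsq)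
      intro h
      have := Root.eta_cast_sq (F := K) (T := Data.E6.tab) (X.S.π i) (gr r)
      rw [← hη', h, mul_zero] at this
      exact zero_ne_one this
    · rw [hact', hact, map_mul, hf]; ring
    · rw [hρr, hact']
      have h := step hπi hgr (X.S.act r (η * t))
      rw [← hη', hπ2, hrr, ← hη, hinv] at h
      rw [h, ← mul_assoc, hsq, one_mul]

include hθ in
theorem gr_lt {r : ℕ} (hr : r < 72) : gr r < 72 ∧ gr (gr r) = r :=
  ⟨nroots_eq ▸ ρ_eq_gr X r ▸ X.S.ρ_lt r (lt72 hr), (act_facts X θ hθ r (lt72 hr)).1⟩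

/-- A root element whose root is fixed is in the twisted group if its parameter is. -/
theorem img_fixed_iff {r : ℕ} (hr : r < 72) (hg : gr r = r) (t : K) :
    Xr r t ∈ twistedE6 K q ↔ X.S.act r t = t := by
  rw [← Fx_twisted X, mem_Fx]
  have h := img_xg X.S (lt72 hr) t
  rw [ρ_eq_gr X, hg] at h
  refine ⟨fun h' => (xg_injective hC (lt72 hr) (h.unique h')), fun e => ?_⟩
  rwa [e] at h

omit X in
theorem conj_mem {G : Type*} [Group G] {H : Subgroup G} {g x : G} (hg : g ∈ H) (hx : x ∈ H) :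
    g * x * g⁻¹ ∈ H :=
  mul_mem (mul_mem hg hx) (inv_mem hg)

omit X in
theorem conj_mem_iff {G : Type*} [Group G] {H : Subgroup G} {g x : G} (hg : g ∈ H) :
    g * x * g⁻¹ ∈ H ↔ x ∈ H := by
  refine ⟨fun h => ?_, conj_mem hg⟩
  have := mul_mem (mul_mem (inv_mem hg) h) hg
  simpa [mul_assoc] using this

/-- The roots fixed by the graph permutation. -/
abbrev longs : List ℕ :=
  [0, 1, 2, 6, 8, 11, 18, 20, 24, 25, 27, 32, 39, 44, 46, 47, 51, 53, 60, 63, 65, 69, 70, 71]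

/-- Words of orbits sending the long roots to the lowest root. -/
abbrev longWords : List (ℕ × List ℕ) :=
  [(0, []), (1, [0]), (2, [0, 1]), (6, [0, 1, 2]), (8, [0, 1, 2, 1]), (11, [0, 1, 2, 1, 0]),
    (18, [0, 1, 2, 3]), (20, [0, 1, 2, 3, 1]), (24, [0, 1, 2, 3, 1, 2]), (25, [0, 1, 2, 3, 1, 2, 1]),
    (27, [0, 1, 2, 3, 1, 0]), (32, [0, 1, 2, 3, 1, 2, 0]), (39, [0, 1, 2, 3, 1, 2, 0, 1]),
    (44, [0, 1, 2, 3, 1, 2, 0, 1, 2]), (46, [0, 1, 2, 3, 1, 2, 1, 0]),
    (47, [0, 1, 2, 3, 1, 2, 0, 1, 0]), (51, [0, 1, 2, 3, 1, 2, 0, 1, 2, 0]),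
    (53, [0, 1, 2, 3, 1, 2, 0, 1, 2, 0, 1]), (60, [0, 1, 2, 3, 1, 2, 0, 1, 2, 3]),
    (63, [0, 1, 2, 3, 1, 2, 0, 1, 2, 3, 0]), (65, [0, 1, 2, 3, 1, 2, 0, 1, 2, 3, 0, 1]),
    (69, [0, 1, 2, 3, 1, 2, 0, 1, 2, 3, 0, 1, 2]), (70, [0, 1, 2, 3, 1, 2, 0, 1, 2, 3, 0, 1, 2, 1]),
    (71, [0, 1, 2, 3, 1, 2, 0, 1, 2, 3, 0, 1, 2, 1, 0])]

omit X [Fintype K] in
theorem longWords_ok : (∀ p ∈ longWords, p.1 < 72 ∧ gr p.1 = p.1 ∧ (∀ a ∈ p.2, a < 4) ∧
      wL chevE6 (lw p.2) p.1 = 0) ∧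
    (∀ r < 72, gr r = r → ∃ p ∈ longWords, p.1 = r) ∧ chevE6.simple 1 = 46 ∧ gr 46 = 46 := by
  decide +kernel

include hθ in
/-- Long root elements of the twisted group are those with fixed parameter. -/
theorem long_iff {r : ℕ} (hr : r < 72) (hg : gr r = r) (t : K) :
    Xr r t ∈ twistedE6 K q ↔ θ t = t := by
  obtain ⟨hw, hall, h46, g46⟩ := longWords_ok
  have key : ∀ {r : ℕ} (_ : r < 72) (_ : gr r = r), ∀ t : K,
      Xr r t ∈ twistedE6 K q ↔ ∃ (l : List ℕ) (η : K), (∀ a ∈ l, a < 4) ∧ η ≠ 0 ∧ θ η = η ∧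
        Xr 0 (η * t) ∈ twistedE6 K q := by
    intro r hr hg t
    obtain ⟨⟨s, l⟩, hp, hs⟩ := hall r hr hg
    obtain ⟨h1, h2, h3, h4⟩ := hw _ hp
    obtain rfl : s = r := hs
    obtain ⟨η, hη, hf, e⟩ := nM_conj θ l hr
    constructor
    · intro h
      refine ⟨l, η, h3, hη, hf, ?_⟩
      rw [← h4, ← e]
      exact conj_mem (nM_mem X h3) h
    · rintro ⟨l', η', h3', hη', hf', h⟩
      have h' : Xr 0 (η * t) ∈ twistedE6 K q := by
        have h0 := (img_fixed_iff X (r := 0) (by norm_num) (by decide +kernel) _).1 h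
        obtain ⟨-, c, -, -, hc, -⟩ := act_facts X θ hθ 0 (lt72 (by norm_num))
        rw [hc, map_mul, hf'] at h0
        have h1 : c * θ t = t := mul_left_cancel₀ hη' (by linear_combination h0)
        refine (img_fixed_iff X (r := 0) (by norm_num) (by decide +kernel) _).2 ?_
        rw [hc, map_mul, hf]
        linear_combination η * h1
      rw [← h4, ← e] at h'
      exact (conj_mem_iff (nM_mem X h3)).1 h'
  -- the common sign, read off at a fundamental root
  obtain ⟨-, c, -, -, hc, -⟩ := act_facts X θ hθ 0 (lt72 (by norm_num))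
  have h0 : ∀ s : K, Xr 0 s ∈ twistedE6 K q ↔ c * θ s = s := fun s => by
    rw [img_fixed_iff X (by norm_num) (by decide +kernel), hc]
  have hc1 : c = 1 := by
    have hin : Xr 46 (1 : K) ∈ twistedE6 K q := by
      rw [img_fixed_iff X (by norm_num) g46, ← h46, X.S.act_simple 1 (by decide +kernel), map_one]
    obtain ⟨-, η, -, hη, hf, h⟩ := (key (by norm_num) g46 1).1 hin
    rw [mul_one, h0, hf] at h
    exact mul_right_cancel₀ hη (h.trans (one_mul η).symm)
  subst hc1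
  simp only [one_mul] at h0
  rw [key hr hg]
  refine ⟨?_, fun ht => ⟨[], 1, by simp, one_ne_zero, map_one θ, by rwa [one_mul, h0]⟩⟩
  rintro ⟨-, η, -, hη, hf, h⟩
  rw [h0, map_mul, hf] at h
  exact mul_left_cancel₀ hη h

end Cfsg.Agent.SimpleFacts.TwistedSubfield
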