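import Cfsg.Agent.SimpleFacts.TwistedSubfield.Heis

/-!
Elements of the radical in the twisted group that conjugate a lowest root element into an overgroup of
the fixed points: how their coordinates move under conjugation by fixed elements.
-/

set_option autoImplicit false
set_option linter.unusedSectionVars false

namespace Cfsg.Agent.SimpleFacts.TwistedSubfield

open Cfsg.Lie Cfsg.Agent.Chevalley Cfsg.Agent.Chevalley.Table Cfsg.Agent.Chevalley.Cert
  Cfsg.Agent.Chevalley.Group Cfsg.Agent.Chevalley.Unip Cfsg.Agent.Chevalley.Borel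
  Cfsg.Agent.Chevalley.Weyl Cfsg.Agent.Chevalley.FieldAut
  Cfsg.Agent.SimpleFacts.ChevalleySubfield Cfsg.Agent.SimpleFacts.SubfieldOvergroup
  Cfsg.Agent.Chevalley.Twist Cfsg.Agent.Chevalley.Twist.E6

/-- A word of fundamental reflections attached to orbits preserving the lowest root. -/
abbrev leviOrbs : List ℕ := [1, 2, 3]

/-- The short root pairs in the radical. -/
abbrev pairs : List ℕ := [49, 52, 54, 55, 66]

theorem radical_facts : (∀ k ∈ R20, gr k ∈ R20 ∧ R20.filter (fun j => gr j = gr k) = [k]) ∧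
    gr 71 = 71 ∧ gr 0 = 0 ∧
    (∀ k ∈ R20, gr k = k ∨ (k ≠ gr k ∧ gr k ≠ chevE6.neg k ∧ chevE6.commTerms k (gr k) = [])) := by
  decide +kernel

theorem levi_facts : ∀ a ∈ leviOrbs, (∀ k ∈ R20, wL chevE6 (lw [a]) k ∈ R20 ∧
      R20.filter (fun j => wL chevE6 (lw [a]) j = wL chevE6 (lw [a]) k) = [k]) ∧
    wL chevE6 (lw [a]) 71 = 71 ∧ wL chevE6 (lw [a]) 0 = 0 ∧ a < 4 := by
  decide +kernel

/-- The integer coefficient with which the root `x` moves the root `s` to the root `k`. -/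
def cf (x s k : ℕ) : ℤ := (((chevE6.commTerms x s).filter fun c => c.1 = k).map fun c => c.2.1).sum

variable {K : Type*} [Field K]

local notation "Xr" => xg (F := K) hC

/-- The deviation of a coordinate from being fixed. -/
def dev (θ : K →+* K) (f : ℕ → K) (k : ℕ) : K := θ (f k) - f k

/-- The coordinates after conjugation by a root element. -/
def stepF (x : ℕ) (u : K) (L : List ℕ) (f : ℕ → K) (k : ℕ) : K :=
  ((L.filter fun s => s = k).map f).sum + u * (L.map fun s => (cf x s k : K) * f s).sum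

theorem conj_term {x s : ℕ} (hx : x < 72) (hs : s < 72) (h1 : s ≠ x) (h2 : s ≠ chevE6.neg x)
    (h : ∀ c ∈ chevE6.commTerms x s, c.2.2.1 = 1 ∧ c.2.2.2 = 1) (u t : K) :
    Xr x u * Xr s t * (Xr x u)⁻¹ =
      Xr s t * ((chevE6.commTerms x s).map fun c => Xr c.1 ((c.2.1 : K) * u * t)).prod := by
  have e := xg_comm (F := K) hC (lt72 hx) (lt72 hs) h1 h2 (-u) t
  have hm : ((chevE6.commWord K x s (-u) t).map fun p => Xr p.1 p.2) =
      (chevE6.commTerms x s).map fun c => Xr c.1 ((c.2.1 : K) * u * t) := by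
    rw [ChevalleyDatum.commWord, List.map_map]
    refine List.map_congr_left fun c hc => ?_
    obtain ⟨e1, e2⟩ := h c hc
    simp [e1, e2]
  rw [hm, ← xg_inv hC x u] at e
  calc Xr x u * Xr s t * (Xr x u)⁻¹ = Xr x u * (Xr s t * (Xr x u)⁻¹) := by group
    _ = _ := by rw [e]; group

/-- The root element moves the radical linearly. -/
abbrev okX (x : ℕ) : Prop := x < 72 ∧ 0 < Data.E6.tab.phi x ∧ ∀ s ∈ R20,
  s ≠ x ∧ s ≠ chevE6.neg x ∧
    ∀ c ∈ chevE6.commTerms x s, c.1 ∈ R20 ∧ c.2.2.1 = 1 ∧ c.2.2.2 = 1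

theorem coord_conj_prodX {x : ℕ} (hx : okX x) (u : K) (f : ℕ → K) :
    ∀ L : List ℕ, (∀ s ∈ L, s ∈ R20) →
      Coord (Xr x u * prodX hC L f * (Xr x u)⁻¹) (stepF x u L f) := by
  intro L
  induction L with
  | nil =>
    intro _
    have e : Xr x u * prodX hC [] f * (Xr x u)⁻¹ = 1 := by simp [prodX]
    rw [e]
    exact Coord.one.congr fun k _ => by simp [stepF]
  | cons a L ih =>
    intro hL
    have ha := hL a List.mem_cons_self
    obtain ⟨h1, h2, h3⟩ := hx.2.2 a ha
    have e : Xr x u * prodX hC (a :: L) f * (Xr x u)⁻¹ =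
        Xr x u * Xr a (f a) * (Xr x u)⁻¹ * (Xr x u * prodX hC L f * (Xr x u)⁻¹) := by
      simp [prodX]
    rw [e, conj_term hx.1 (R21_ok.2.2.1 a (mem_R21 ha)).1 h1 h2 (fun c hc => (h3 c hc).2) u (f a)]
    refine (((Coord.single ha (f a)).mul ?_).mul (ih fun s hs => hL s (List.mem_cons_of_mem a hs))).congr
      (g := stepF x u (a :: L) f)
      (f := fun k => (if k = a then f a else 0) + u * ((cf x a k : K) * f a) + stepF x u L f k)
      fun k _ => ?_
    · show Coord _ (fun k => u * ((cf x a k : K) * f a))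
      have key : ∀ l : List (ℕ × ℤ × ℕ × ℕ), (∀ c ∈ l, c.1 ∈ R20) →
          Coord ((l.map fun c => Xr c.1 ((c.2.1 : K) * u * f a)).prod)
            (fun k => u * ((((l.filter fun c => c.1 = k).map fun c => c.2.1).sum : ℤ) : K) * f a) := by
        intro l
        induction l with
        | nil => intro _; simpa using Coord.one
        | cons c l ihl =>
          intro hl
          rw [List.map_cons, List.prod_cons]
          refine ((Coord.single (hl c List.mem_cons_self) _).mul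
            (ihl fun d hd => hl d (List.mem_cons_of_mem c hd))).congr fun k _ => ?_
          by_cases hck : c.1 = k
          · simp [hck]; ring
          · simp [hck, Ne.symm hck]
      exact (key _ fun c hc => (h3 c hc).1).congr fun k _ => by rw [cf, mul_assoc]
    · by_cases hak : a = k
      · subst hak; simp [stepF]; ring
      · simp [stepF, hak, Ne.symm hak]; ring

/-- Conjugation by a root element, on coordinates. -/
theorem Coord.conj {r : GL chevE6.Idx K} {f : ℕ → K} (hr : Coord r f) {x : ℕ} (hx : okX x) (u : K) :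
    Coord (Xr x u * r * (Xr x u)⁻¹) (stepF x u R20 f) := by
  obtain ⟨z, rfl⟩ := hr
  obtain ⟨w, hw⟩ := coord_conj_prodX hx u f R20 fun _ h => h
  refine ⟨w + z, ?_⟩
  have hc := top_central (xg_mem_U (F := K) hC (lt72 hx.1) hx.2.1 u) z
  calc Xr x u * (prodX hC R20 f * Xr 71 z) * (Xr x u)⁻¹
      = Xr x u * prodX hC R20 f * (Xr x u)⁻¹ * (Xr x u * Xr 71 z * (Xr x u)⁻¹) := by group
    _ = prodX hC R20 (stepF x u R20 f) * (Xr 71 w * Xr 71 z) := by
      rw [hw, ← hc.eq]; group
    _ = _ := by rw [xg_add hC 71 w]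

theorem dev_stepF (θ : K →+* K) {x : ℕ} {u : K} (hu : θ u = u) (f : ℕ → K) {k : ℕ} (hk : k ∈ R20) :
    dev θ (stepF x u R20 f) k =
      dev θ f k + u * (R20.map fun s => (cf x s k : K) * dev θ f s).sum := by
  have h1 : ((R20.filter fun s => s = k).map f).sum = f k := by
    have : R20.filter (fun s => decide (s = k)) = [k] := by
      have key : ∀ k ∈ R20, R20.filter (fun s => decide (s = k)) = [k] := by decide +kernel
      exact key k hk
    rw [this]; simp
  have h2 : ∀ L : List ℕ, (L.map fun s => (cf x s k : K) * dev θ f s).sum =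
      θ ((L.map fun s => (cf x s k : K) * f s).sum) - (L.map fun s => (cf x s k : K) * f s).sum := by
    intro L
    induction L with
    | nil => simp
    | cons a L ih =>
      rw [List.map_cons, List.sum_cons, ih]
      simp only [List.map_cons, List.sum_cons, map_add, map_mul, map_intCast, dev]
      ring
  rw [h2]
  simp only [dev, stepF, h1, map_add, map_mul, hu]
  ring

/-- If all sources of `k` have vanishing deviation but perhaps `a`, only `a` contributes. -/
theorem dev_step_eq (θ : K →+* K) {x : ℕ} {u : K} (hu : θ u = u) (f : ℕ → K) {k a : ℕ} {n : ℤ}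
    (hk : k ∈ R20) (ha : a ∈ R20) (hn : cf x a k = n) {Z : List ℕ}
    (hZ : ∀ s ∈ Z, dev θ f s = 0) (hs : ∀ s ∈ R20, s = a ∨ s ∈ Z ∨ cf x s k = 0) :
    dev θ (stepF x u R20 f) k = dev θ f k + u * ((n : K) * dev θ f a) := by
  rw [dev_stepF θ hu f hk]
  congr 2
  have key : ∀ L : List ℕ, L.Nodup → (∀ s ∈ L, s ∈ R20) →
      (L.map fun s => (cf x s k : K) * dev θ f s).sum =
        if a ∈ L then (n : K) * dev θ f a else 0 := by
    intro L
    induction L with
    | nil => simp
    | cons b L ih =>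
      intro hnd hL
      rw [List.nodup_cons] at hnd
      rw [List.map_cons, List.sum_cons, ih hnd.2 fun s hs => hL s (List.mem_cons_of_mem b hs)]
      by_cases hba : b = a
      · subst hba; simp [hnd.1, hn]
      · have : (cf x b k : K) * dev θ f b = 0 := by
          rcases (hs b (hL b List.mem_cons_self)).resolve_left hba with h | h
          · rw [hZ b h, mul_zero]
          · rw [h, Int.cast_zero, zero_mul]
        simp [this, Ne.symm hba]
  rw [key R20 R21_ok.2.2.2.2 fun _ h => h, if_pos ha]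

theorem dev_step_same (θ : K →+* K) {x : ℕ} {u : K} (hu : θ u = u) (f : ℕ → K) {k : ℕ}
    (hk : k ∈ R20) {Z : List ℕ} (hZ : ∀ s ∈ Z, dev θ f s = 0)
    (hs : ∀ s ∈ R20, s ∈ Z ∨ cf x s k = 0) :
    dev θ (stepF x u R20 f) k = dev θ f k := by
  rw [dev_stepF θ hu f hk, List.sum_eq_zero, mul_zero, add_zero]
  intro y hy
  obtain ⟨s, hsR, rfl⟩ := List.mem_map.1 hy
  rcases hs s hsR with h | h
  · rw [hZ s h, mul_zero]
  · rw [h, Int.cast_zero, zero_mul]

variable [Fintype K] {q : ℕ} {hK : Fintype.card K = q ^ 2}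
variable (X : Setup (K := K) hK) (θ : K →+* K) (hθ : ∀ t, θ t = t ^ q)

/-- The hypotheses on an overgroup of the fixed points. -/
structure Over (θ : K →+* K) (q : ℕ) (H : Subgroup (GL chevE6.Idx K)) : Prop where
  le : H ≤ twistedE6 K q
  fixed_mem : ∀ g ∈ twistedE6 K q, Fixed chevE6 θ g → g ∈ H

/-- A radical element of the twisted group with coordinates `f` carrying a fixed lowest root element
into the subgroup. -/
structure Good (θ : K →+* K) (q : ℕ) (H : Subgroup (GL chevE6.Idx K)) (r : GL chevE6.Idx K) (μ : K)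
    (f : ℕ → K) : Prop where
  mem : r ∈ twistedE6 K q
  coord : Coord r f
  mu_fixed : θ μ = μ
  mu_ne : μ ≠ 0
  conj : r * xg hC 0 μ * r⁻¹ ∈ H

include X hθ

theorem img_prodX {L : List ℕ} (hL : ∀ k ∈ L, k < 72) (f : ℕ → K) :
    Img X.S (prodX hC L f) (L.map fun k => Xr (gr k) (X.S.act k (f k))).prod := by
  induction L with
  | nil => simpa [prodX] using Img.one (S := X.S)
  | cons a L ih =>
    have h := (img_xg X.S (lt72 (hL a List.mem_cons_self)) (f a)).mul
      (ih fun k hk => hL k (List.mem_cons_of_mem a hk))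
    rw [ρ_eq_gr X] at h
    simpa [prodX] using h

/-- The symmetry of the coordinates of a fixed radical element. -/
theorem coord_symm {r : GL chevE6.Idx K} (hr : r ∈ twistedE6 K q) {f : ℕ → K} (hf : Coord r f) :
    ∀ k ∈ R20, f (gr k) = X.S.act k (f k) := by
  obtain ⟨hg, h71, -, -⟩ := radical_facts
  rw [← Fx_twisted X, mem_Fx] at hr
  obtain ⟨z, hz⟩ := id hf
  have h := (img_prodX X θ hθ (L := R20) (fun k hk => (R21_ok.2.2.1 k (mem_R21 hk)).1) f).mul
    (img_xg X.S (lt72 (r := 71) R21_ok.2.2.2.1) z)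
  rw [ρ_eq_gr X, h71, ← hz] at h
  have e := hr.unique h
  have hc := (Coord.list (K := K) gr (fun k => X.S.act k (f k)) R20 fun k hk => (hg k hk).1).mul
    (Coord.top (X.S.act 71 z))
  rw [← e] at hc
  intro k hk
  have := hf.unique hc (gr k) (hg k hk).1
  simpa [(hg k hk).2] using this

/-- The deviations of partners differ by a fixed scalar. -/
theorem dev_partner {r : GL chevE6.Idx K} (hr : r ∈ twistedE6 K q) {f : ℕ → K} (hf : Coord r f)
    {k : ℕ} (hk : k ∈ R20) : dev θ f k = 0 ↔ dev θ f (gr k) = 0 := by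
  obtain ⟨-, e, he, he0, hact, -⟩ := act_facts X θ hθ k (lt72 (R21_ok.2.2.1 k (mem_R21 hk)).1)
  have h : dev θ f (gr k) = -(e * dev θ f k) := by
    rw [dev, dev, coord_symm X θ hθ hr hf k hk, hact, map_mul, he, theta2 θ hθ hK]
    ring
  rw [h, neg_eq_zero, mul_eq_zero, or_iff_right he0]

/-- The long coordinates are fixed. -/
theorem dev_long {r : GL chevE6.Idx K} (hr : r ∈ twistedE6 K q) {f : ℕ → K} (hf : Coord r f)
    {k : ℕ} (hk : k ∈ R20) (hg : gr k = k) : dev θ f k = 0 := by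
  have h := coord_symm X θ hθ hr hf k hk
  rw [hg] at h
  have hlt := (R21_ok.2.2.1 k (mem_R21 hk)).1
  rw [dev, sub_eq_zero]
  exact (long_iff X θ hθ hlt hg _).1 ((img_fixed_iff X hlt hg _).2 h.symm)

omit X hθ in
theorem dev_anti (h2 : ∀ t, θ (θ t) = t) (f : ℕ → K) (k : ℕ) : θ (dev θ f k) = -dev θ f k := by
  rw [dev, map_sub, h2]; ring

variable {H : Subgroup (GL chevE6.Idx K)} (hH : Over θ q H)
include hH

omit X hθ in
theorem Good.conj_of_commute {r : GL chevE6.Idx K} {μ : K} {f g : ℕ → K} (h : Good θ q H r μ f)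
    {m : GL chevE6.Idx K} (hm : m ∈ twistedE6 K q) (hmf : Fixed chevE6 θ m)
    (hc : Commute m (Xr 0 μ)) (hg : Coord (m * r * m⁻¹) g) : Good θ q H (m * r * m⁻¹) μ g := by
  refine ⟨mul_mem (mul_mem hm h.mem) (inv_mem hm), hg, h.mu_fixed, h.mu_ne, ?_⟩
  have e : m * r * m⁻¹ * Xr 0 μ * (m * r * m⁻¹)⁻¹ = m * (r * Xr 0 μ * r⁻¹) * m⁻¹ := by
    rw [show m * r * m⁻¹ * Xr 0 μ * (m * r * m⁻¹)⁻¹ =
      m * r * (m⁻¹ * (Xr 0 μ * m)) * r⁻¹ * m⁻¹ by group, ← hc.eq]
    group
  rw [e]
  exact conj_mem (hH.fixed_mem m hm hmf) h.conj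

/-- Moving a radical element by an orbit monomial. -/
theorem Good.levi {r : GL chevE6.Idx K} {μ : K} {f : ℕ → K} (h : Good θ q H r μ f) {a : ℕ}
    (ha : a ∈ leviOrbs) : ∃ r' μ' g, Good θ q H r' μ' g ∧
      ∀ k ∈ R20, ∃ η : K, η ≠ 0 ∧ dev θ g (wL chevE6 (lw [a]) k) = η * dev θ f k := by
  obtain ⟨hk20, h71, h0, ha4⟩ := levi_facts a ha
  have hl : ∀ b ∈ [a], b < 4 := fun b hb => List.mem_singleton.1 hb ▸ ha4
  obtain ⟨m, hm_def⟩ : ∃ m, m = nM K [a] := ⟨_, rfl⟩
  have hm : m ∈ twistedE6 K q := hm_def ▸ nM_mem X hl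
  have hmf : Fixed chevE6 θ m := hm_def ▸ nM_fixed θ [a]
  have hex : ∀ k, ∃ η : K, k < 72 → η ≠ 0 ∧ θ η = η ∧
      ∀ t : K, m * Xr k t * m⁻¹ = Xr (wL chevE6 (lw [a]) k) (η * t) := by
    intro k
    by_cases hk : k < 72
    · obtain ⟨η, h1, h2, h3⟩ := nM_conj θ [a] hk
      exact ⟨η, fun _ => ⟨h1, h2, fun t => hm_def ▸ h3 t⟩⟩
    · exact ⟨1, fun h => absurd h hk⟩
  choose η hη using hex
  obtain ⟨hη0, hη0f, e0⟩ := hη 0 (by norm_num)
  rw [h0] at e0
  obtain ⟨z, hz⟩ := h.coord
  have key : ∀ L : List ℕ, (∀ k ∈ L, k < 72) → m * prodX hC L f * m⁻¹ =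
      (L.map fun k => Xr (wL chevE6 (lw [a]) k) (η k * f k)).prod := by
    intro L
    induction L with
    | nil => simp [prodX]
    | cons b L ih =>
      intro hL
      rw [show prodX hC (b :: L) f = Xr b (f b) * prodX hC L f by simp [prodX], List.map_cons,
        List.prod_cons, ← (hη b (hL b List.mem_cons_self)).2.2, ← ih fun k hk =>
          hL k (List.mem_cons_of_mem b hk)]
      group
  have hc := (Coord.list (K := K) (fun k => wL chevE6 (lw [a]) k) (fun k => η k * f k) R20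
    fun k hk => (hk20 k hk).1).mul (Coord.top (η 71 * z))
  have e71 : m * Xr 71 z * m⁻¹ = Xr 71 (η 71 * z) :=
    ((hη 71 R21_ok.2.2.2.1).2.2 z).trans (congrArg (fun w => Xr w (η 71 * z)) h71)
  rw [← key R20 fun k hk => (R21_ok.2.2.1 k (mem_R21 hk)).1, ← e71] at hc
  rw [show m * prodX hC R20 f * m⁻¹ * (m * Xr 71 z * m⁻¹) = m * r * m⁻¹ by rw [hz]; group] at hc
  refine ⟨m * r * m⁻¹, η 0 * μ, _, ⟨mul_mem (mul_mem hm h.mem) (inv_mem hm), hc,
    by rw [map_mul, hη0f, h.mu_fixed], mul_ne_zero hη0 h.mu_ne, ?_⟩,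
    fun k hk => ⟨η k, (hη k (R21_ok.2.2.1 k (mem_R21 hk)).1).1, ?_⟩⟩
  · rw [← e0, show m * r * m⁻¹ * (m * Xr 0 μ * m⁻¹) * (m * r * m⁻¹)⁻¹ =
      m * (r * Xr 0 μ * r⁻¹) * m⁻¹ by group]
    exact conj_mem (hH.fixed_mem m hm hmf) h.conj
  · have hf' := (hη k (R21_ok.2.2.1 k (mem_R21 hk)).1).2.1
    simp [dev, (hk20 k hk).2, hf']
    ring

end Cfsg.Agent.SimpleFacts.TwistedSubfield
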