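import Cfsg.Agent.SimpleFacts.TwistedSubfield.Basic

/-!
The unipotent radical of the parabolic subgroup of the highest root of E6: a product decomposition
modulo the highest root group, with additive coordinates.
-/

set_option autoImplicit false
set_option linter.unusedSectionVars false

namespace Cfsg.Agent.SimpleFacts.TwistedSubfield

open Cfsg.Lie Cfsg.Agent.Chevalley Cfsg.Agent.Chevalley.Table Cfsg.Agent.Chevalley.Cert
  Cfsg.Agent.Chevalley.Group Cfsg.Agent.Chevalley.Unip Cfsg.Agent.Chevalley.Borel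
  Cfsg.Agent.Chevalley.FieldAut Cfsg.Agent.SimpleFacts.SubfieldOvergroup
  Cfsg.Agent.Chevalley.Twist Cfsg.Agent.Chevalley.Twist.E6

/-- The roots in which the second fundamental root has coefficient one. -/
abbrev R20 : List ℕ :=
  [46, 47, 48, 49, 50, 51, 52, 53, 54, 55, 61, 62, 63, 64, 65, 66, 67, 68, 69, 70]

/-- Those roots and the highest root. -/
abbrev R21 : List ℕ :=
  [46, 47, 48, 49, 50, 51, 52, 53, 54, 55, 61, 62, 63, 64, 65, 66, 67, 68, 69, 70, 71]

theorem R21_ok : R21.Pairwise (· < ·) ∧ R20 ++ [71] = R21 ∧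
    (∀ r ∈ R21, r < 72 ∧ 0 < Data.E6.tab.phi r) ∧ (71 : ℕ) < 72 ∧ R20.Nodup := by
  decide +kernel

theorem R20_comm_ok : ∀ r ∈ R20, ∀ s ∈ R20, r ≠ s →
    s ≠ chevE6.neg r ∧ ∀ c ∈ chevE6.commTerms r s, c.1 = 71 := by
  decide +kernel

theorem top_comm_ok : ∀ r < 72, 0 < Data.E6.tab.phi r → r = 71 ∨
    (r ≠ chevE6.neg 71 ∧ chevE6.commTerms 71 r = []) := by
  decide +kernel

variable {K : Type*} [Field K]

local notation "Xr" => xg (F := K) hC

theorem xg_commute_of_nil {r s : ℕ} (hr : r < 72) (hs : s < 72) (h1 : s ≠ r) (h2 : s ≠ chevE6.neg r)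
    (h : chevE6.commTerms r s = []) (t u : K) : Commute (Xr r t) (Xr s u) := by
  have e := xg_comm (F := K) hC (lt72 hr) (lt72 hs) h1 h2 t u
  simp only [ChevalleyDatum.commWord, h, List.map_nil, List.prod_nil, mul_one] at e
  exact e.symm

theorem top_central {u : GL chevE6.Idx K} (hu : u ∈ chevE6.posUnipotent K) (z : K) :
    Commute (Xr 71 z) u := by
  rw [← Uge_zero hC] at hu
  induction hu using Subgroup.closure_induction with
  | mem g hg =>
    obtain ⟨s, t, hs, hp, -, rfl⟩ := hg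
    by_cases h71 : s = 71
    · subst h71
      exact (xg_add hC 71 z t).symm.trans (by rw [add_comm, xg_add hC])
    · obtain ⟨h2, h⟩ := (top_comm_ok s (lt_of_lt_of_eq hs nroots_eq) hp).resolve_left h71
      exact xg_commute_of_nil R21_ok.2.2.2.1 (lt_of_lt_of_eq hs nroots_eq) h71 h2 h z t
  | one => exact Commute.one_right _
  | mul a b _ _ ha hb => exact ha.mul_right hb
  | inv a _ ha => exact ha.inv_right

theorem mem_U {r : ℕ} (hr : r ∈ R21) (t : K) : Xr r t ∈ chevE6.posUnipotent K :=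
  xg_mem_U hC (lt72 (R21_ok.2.2.1 r hr).1) (R21_ok.2.2.1 r hr).2 t

theorem mem_R21 {r : ℕ} (hr : r ∈ R20) : r ∈ R21 :=
  R21_ok.2.1 ▸ List.mem_append_left _ hr

theorem prodX20_mem_U (f : ℕ → K) {L : List ℕ} (hL : ∀ r ∈ L, r ∈ R20) :
    prodX hC L f ∈ chevE6.posUnipotent K := by
  refine list_prod_mem fun g hg => ?_
  obtain ⟨r, hr, rfl⟩ := List.mem_map.1 hg
  exact mem_U (mem_R21 (hL r hr)) _

/-- Two root elements commute up to the highest root group. -/
theorem swap_top {r s : ℕ} (hr : r ∈ R20) (hs : s ∈ R20) (hne : r ≠ s) (t u : K) :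
    ∃ z : K, Xr s u * Xr r t = Xr r t * Xr s u * Xr 71 z := by
  obtain ⟨h2, hc⟩ := R20_comm_ok r hr s hs hne
  obtain ⟨h1, -⟩ := R21_ok.2.2.1 r (mem_R21 hr)
  obtain ⟨h1', -⟩ := R21_ok.2.2.1 s (mem_R21 hs)
  have e := xg_comm (F := K) hC (lt72 h1) (lt72 h1') (Ne.symm hne) h2 t u
  have key : ∀ l : List (ℕ × K), (∀ p ∈ l, p.1 = 71) →
      ∃ z : K, (l.map fun p => Xr p.1 p.2).prod = Xr 71 z := by
    intro l
    induction l with
    | nil => exact fun _ => ⟨0, by rw [xg_zero hC]; rfl⟩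
    | cons p l ih =>
      intro hl
      obtain ⟨z, hz⟩ := ih fun p hp => hl p (List.mem_cons_of_mem _ hp)
      refine ⟨p.2 + z, ?_⟩
      rw [List.map_cons, List.prod_cons, hz, hl p List.mem_cons_self, xg_add hC]
  obtain ⟨z, hz⟩ := key (chevE6.commWord K r s t u) fun p hp => by
    simp only [ChevalleyDatum.commWord, List.mem_map] at hp
    obtain ⟨c, hc', rfl⟩ := hp
    exact hc c hc'
  exact ⟨z, by rw [e, hz]⟩

theorem shift_top {L : List ℕ} (hL : ∀ r ∈ L, r ∈ R20) {a : ℕ} (ha : a ∈ R20) (hna : a ∉ L)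
    (f : ℕ → K) (t : K) :
    ∃ z : K, prodX hC L f * Xr a t = Xr a t * prodX hC L f * Xr 71 z := by
  induction L with
  | nil => exact ⟨0, by simp [prodX, xg_zero hC]⟩
  | cons b L ih =>
    obtain ⟨hba, hnL⟩ := List.ne_and_not_mem_of_not_mem_cons hna
    obtain ⟨z, hz⟩ := ih (fun r hr => hL r (List.mem_cons_of_mem _ hr)) hnL
    obtain ⟨w, hw⟩ := swap_top ha (hL b List.mem_cons_self) hba t (f b)
    have hcw := top_central (prodX20_mem_U f fun r hr => hL r (List.mem_cons_of_mem _ hr)) w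
    refine ⟨w + z, ?_⟩
    rw [show prodX hC (b :: L) f = Xr b (f b) * prodX hC L f by simp [prodX], mul_assoc, hz,
      xg_add hC]
    calc Xr b (f b) * (Xr a t * prodX hC L f * Xr 71 z)
        = Xr b (f b) * Xr a t * prodX hC L f * Xr 71 z := by group
      _ = Xr a t * Xr b (f b) * (Xr 71 w * prodX hC L f) * Xr 71 z := by rw [hw]; group
      _ = Xr a t * (Xr b (f b) * prodX hC L f) * (Xr 71 w * Xr 71 z) := by rw [hcw.eq]; group

theorem prodX_add {L : List ℕ} (hL : ∀ r ∈ L, r ∈ R20) (hnd : L.Nodup) (f g : ℕ → K) :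
    ∃ z : K, prodX hC L f * prodX hC L g = prodX hC L (fun k => f k + g k) * Xr 71 z := by
  induction L with
  | nil => exact ⟨0, by simp [prodX, xg_zero hC]⟩
  | cons a L ih =>
    rw [List.nodup_cons] at hnd
    have hL' : ∀ r ∈ L, r ∈ R20 := fun r hr => hL r (List.mem_cons_of_mem _ hr)
    obtain ⟨z, hz⟩ := ih hL' hnd.2
    obtain ⟨w, hw⟩ := shift_top hL' (hL a List.mem_cons_self) hnd.1 f (g a)
    refine ⟨z + w, ?_⟩
    have e : ∀ h : ℕ → K, prodX hC (a :: L) h = Xr a (h a) * prodX hC L h := fun h => by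
      simp [prodX]
    have hcw := top_central (prodX20_mem_U g hL') w
    rw [e, e, e, xg_add hC a, xg_add hC 71]
    calc Xr a (f a) * prodX hC L f * (Xr a (g a) * prodX hC L g)
        = Xr a (f a) * (prodX hC L f * Xr a (g a)) * prodX hC L g := by group
      _ = Xr a (f a) * Xr a (g a) * prodX hC L f * (Xr 71 w * prodX hC L g) := by rw [hw]; group
      _ = Xr a (f a) * Xr a (g a) * (prodX hC L f * prodX hC L g) * Xr 71 w := by rw [hcw.eq]; group
      _ = _ := by rw [hz]; group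

/-- The radical. -/
def Rad (K : Type*) [Field K] : Subgroup (GL chevE6.Idx K) :=
  Subgroup.closure {g | ∃ (r : ℕ) (t : K), r ∈ R21 ∧ g = xg hC r t}

theorem xg_mem_Rad {r : ℕ} (hr : r ∈ R21) (t : K) : Xr r t ∈ Rad K :=
  Subgroup.subset_closure ⟨r, t, hr, rfl⟩

theorem Rad_le_U : Rad K ≤ chevE6.posUnipotent K := by
  refine (Subgroup.closure_le _).2 ?_
  rintro g ⟨r, t, hr, rfl⟩
  exact mem_U hr t

/-- The element has the given coordinates. -/
def Coord (r : GL chevE6.Idx K) (f : ℕ → K) : Prop :=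
  ∃ z : K, r = prodX hC R20 f * Xr 71 z

theorem Coord.unique {r : GL chevE6.Idx K} {f g : ℕ → K} (hf : Coord r f) (hg : Coord r g) :
    ∀ k ∈ R20, f k = g k := by
  obtain ⟨z, hz⟩ := hf
  obtain ⟨w, hw⟩ := hg
  classical
  have e : ∀ (h : ℕ → K) (x : K), prodX hC R20 h * Xr 71 x =
      prodX hC R21 (Function.update h 71 x) := by
    intro h x
    rw [← R21_ok.2.1, prodX, prodX, List.map_append, List.prod_append, List.map_singleton,
      List.prod_singleton, Function.update_self]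
    refine congrArg (· * _) (congrArg List.prod (List.map_congr_left fun r hr => ?_))
    rw [Function.update_of_ne]
    rintro rfl
    simp at hr
  rw [hz, e, e] at hw
  intro k hk
  have h := prodX_inj hC R21_ok.1
    (fun r hr => ⟨lt72 (R21_ok.2.2.1 r hr).1, (R21_ok.2.2.1 r hr).2⟩) hw k (mem_R21 hk)
  have hk71 : k ≠ 71 := by rintro rfl; simp at hk
  rwa [Function.update_of_ne hk71, Function.update_of_ne hk71] at h

theorem Coord.congr {r : GL chevE6.Idx K} {f g : ℕ → K} (hf : Coord r f)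
    (h : ∀ k ∈ R20, f k = g k) : Coord r g := by
  obtain ⟨z, hz⟩ := hf
  exact ⟨z, by rw [hz, prodX_congr hC h]⟩

theorem Coord.mul {r r' : GL chevE6.Idx K} {f g : ℕ → K} (hf : Coord r f) (hg : Coord r' g) :
    Coord (r * r') (fun k => f k + g k) := by
  obtain ⟨z, rfl⟩ := hf
  obtain ⟨w, rfl⟩ := hg
  obtain ⟨x, hx⟩ := prodX_add (L := R20) (fun _ h => h) R21_ok.2.2.2.2 f g
  refine ⟨x + (z + w), ?_⟩
  have hc := top_central (prodX20_mem_U g (L := R20) fun _ h => h) z
  calc prodX hC R20 f * Xr 71 z * (prodX hC R20 g * Xr 71 w)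
      = prodX hC R20 f * (Xr 71 z * prodX hC R20 g) * Xr 71 w := by group
    _ = prodX hC R20 f * prodX hC R20 g * (Xr 71 z * Xr 71 w) := by rw [hc.eq]; group
    _ = _ := by rw [hx, xg_add hC 71 x, xg_add hC 71 z]; group

theorem Coord.top (z : K) : Coord (Xr 71 z) (fun _ => 0) := by
  refine ⟨z, ?_⟩
  rw [prodX, List.prod_eq_one, one_mul]
  intro g hg
  obtain ⟨r, -, rfl⟩ := List.mem_map.1 hg
  exact xg_zero hC r

theorem Coord.one : Coord (1 : GL chevE6.Idx K) (fun _ => 0) := by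
  have := Coord.top (0 : K)
  rwa [xg_zero hC] at this

theorem prodX_single (L : List ℕ) (hnd : L.Nodup) {k : ℕ} (t : K) :
    prodX hC L (fun j => if j = k then t else 0) = if k ∈ L then Xr k t else 1 := by
  induction L with
  | nil => simp [prodX]
  | cons a L ih =>
    rw [List.nodup_cons] at hnd
    rw [show prodX hC (a :: L) (fun j => if j = k then t else 0) =
      Xr a (if a = k then t else 0) * prodX hC L (fun j => if j = k then t else 0) by simp [prodX],
      ih hnd.2]
    by_cases hak : a = k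
    · subst hak; simp [hnd.1]
    · simp [hak, Ne.symm hak, xg_zero hC]

theorem Coord.single {k : ℕ} (hk : k ∈ R20) (t : K) :
    Coord (Xr k t) (fun j => if j = k then t else 0) :=
  ⟨0, by rw [prodX_single R20 R21_ok.2.2.2.2, if_pos hk, xg_zero hC, mul_one]⟩

/-- The coordinates of a product of root elements. -/
theorem Coord.list (σ : ℕ → ℕ) (v : ℕ → K) : ∀ L : List ℕ, (∀ k ∈ L, σ k ∈ R20) →
    Coord ((L.map fun k => Xr (σ k) (v k)).prod)
      (fun j => ((L.filter fun k => σ k = j).map v).sum) := by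
  intro L
  induction L with
  | nil => intro _; simpa using Coord.one
  | cons a L ih =>
    intro h
    rw [List.map_cons, List.prod_cons]
    refine ((Coord.single (h a List.mem_cons_self) (v a)).mul
      (ih fun k hk => h k (List.mem_cons_of_mem _ hk))).congr fun j _ => ?_
    by_cases haj : σ a = j
    · simp [haj]
    · simp [haj, Ne.symm haj]

theorem exists_coord {r : GL chevE6.Idx K} (hr : r ∈ Rad K) : ∃ f : ℕ → K, Coord r f := by
  suffices h : (∃ f, Coord r f) ∧ ∃ f, Coord r⁻¹ f from h.1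
  induction hr using Subgroup.closure_induction with
  | mem g hg =>
    obtain ⟨s, t, hs, rfl⟩ := hg
    rw [xg_inv hC]
    rw [← R21_ok.2.1, List.mem_append, List.mem_singleton] at hs
    rcases hs with hs | rfl
    · exact ⟨⟨_, Coord.single hs t⟩, _, Coord.single hs (-t)⟩
    · exact ⟨⟨_, Coord.top t⟩, _, Coord.top (-t)⟩
  | one => rw [inv_one]; exact ⟨⟨_, Coord.one⟩, _, Coord.one⟩
  | mul a b _ _ ha hb =>
    rw [mul_inv_rev]
    exact ⟨⟨_, ha.1.choose_spec.mul hb.1.choose_spec⟩, _, hb.2.choose_spec.mul ha.2.choose_spec⟩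
  | inv a _ ha => rw [inv_inv]; exact ⟨ha.2, ha.1⟩

end Cfsg.Agent.SimpleFacts.TwistedSubfield
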