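import Cfsg.Agent.SimpleFacts.TwistedSubfield.Reduce

/-!
A proper overgroup of the fixed points in the twisted group conjugates the long root elements with
fixed parameters to fixed elements.
-/

set_option autoImplicit false
set_option linter.unusedSectionVars false

namespace Cfsg.Agent.SimpleFacts.TwistedSubfield

open Cfsg.Lie Cfsg.Agent.Chevalley Cfsg.Agent.Chevalley.Table Cfsg.Agent.Chevalley.Cert
  Cfsg.Agent.Chevalley.Group Cfsg.Agent.Chevalley.Unip Cfsg.Agent.Chevalley.Borel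
  Cfsg.Agent.Chevalley.Weyl Cfsg.Agent.Chevalley.NormalForm Cfsg.Agent.Chevalley.FieldAut
  Cfsg.Agent.SimpleFacts.ChevalleySubfield Cfsg.Agent.SimpleFacts.SubfieldOvergroup
  Cfsg.Agent.Chevalley.Twist Cfsg.Agent.Chevalley.Twist.E6

/-- A word of orbits for the reflection in the highest root. -/
abbrev topWord : List ℕ := [0, 1, 2, 3, 1, 2, 0, 1, 2, 3, 0, 1, 2, 1, 0]

theorem topWord_ok : wL chevE6 (lw topWord) 0 = 71 ∧ (∀ a ∈ topWord, a < 4) ∧
    ∀ r < 72, 0 < Data.E6.tab.phi r → Data.E6.tab.phi (wL chevE6 (lw topWord) r) < 0 → r ∈ R21 := by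
  decide +kernel

theorem bottom_comm_ok : ∀ r < 72, Data.E6.tab.phi r < 0 → r = 0 ∨
    (r ≠ chevE6.neg 0 ∧ chevE6.commTerms 0 r = []) := by
  decide +kernel

variable {K : Type*} [Field K]

local notation "Xr" => xg (F := K) hC

theorem bottom_central {v : GL chevE6.Idx K} (hv : v ∈ chevE6.negUnipotent K) (t : K) :
    Commute (Xr 0 t) v := by
  rw [V_eq_closure hC] at hv
  induction hv using Subgroup.closure_induction with
  | mem g hg =>
    obtain ⟨s, u, hs, hp, rfl⟩ := hg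
    by_cases h0 : s = 0
    · subst h0
      exact (xg_add hC 0 t u).symm.trans (by rw [add_comm, xg_add hC])
    · obtain ⟨h2, h⟩ := (bottom_comm_ok s (lt_of_lt_of_eq hs nroots_eq) hp).resolve_left h0
      exact xg_commute_of_nil (by norm_num) (lt_of_lt_of_eq hs nroots_eq) h0 h2 h t u
  | one => exact Commute.one_right _
  | mul a b _ _ ha hb => exact ha.mul_right hb
  | inv a _ ha => exact ha.inv_right

variable [Fintype K] {q : ℕ} {hK : Fintype.card K = q ^ 2}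
variable (X : Setup (K := K) hK) (θ : K →+* K) (hθ : ∀ t, θ t = t ^ q)
include X

/-- The decomposition of a fixed element along a fixed monomial element consists of fixed elements. -/
theorem fixed_parts {m v A B : GL chevE6.Idx K} (hm : m ∈ twistedE6 K q) (hv : v ∈ twistedE6 K q)
    (hA : m * A * m⁻¹ ∈ chevE6.posUnipotent K) (hB : m * B * m⁻¹ ∈ chevE6.negUnipotent K)
    (he : v = A * B) : A ∈ twistedE6 K q ∧ B ∈ twistedE6 K q := by
  have hAfix : A ∈ twistedE6 K q := by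
    rw [← Fx_twisted X, mem_Fx] at hm hv ⊢
    obtain ⟨A', hA'⟩ : ∃ A', Img X.S A A' := Img.exists_of_mem (by
      rw [show A = m⁻¹ * (m * A * m⁻¹) * m by group]
      exact mul_mem (mul_mem (inv_mem hm.mem) (B_le_group hC (Subgroup.mem_sup_left hA))) hm.mem)
    obtain ⟨B', hB'⟩ : ∃ B', Img X.S B B' := Img.exists_of_mem (by
      rw [show B = A⁻¹ * v by rw [he]; group]
      exact mul_mem (inv_mem hA'.mem) hv.mem)
    have e : A' * B' = A * B := by
      have h := hA'.mul hB'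
      rw [← he] at h
      rw [← he]; exact h.unique hv
    have h1 := img_U X.S hA ((hm.mul hA').mul hm.inv)
    have h2 := img_V X.S hB ((hm.mul hB').mul hm.inv)
    have h3 : (m * A * m⁻¹)⁻¹ * (m * A' * m⁻¹) = 1 := by
      refine Unip.U_inf_V hC (mul_mem (inv_mem hA) h1) ?_
      have : (m * A * m⁻¹)⁻¹ * (m * A' * m⁻¹) = m * B * m⁻¹ * (m * B' * m⁻¹)⁻¹ := by
        rw [show A' = A * B * B'⁻¹ by rw [← e]; group]
        group
      rw [this]; exact mul_mem hB (inv_mem h2)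
    rw [inv_mul_eq_one, mul_left_inj, mul_right_inj] at h3
    rwa [← h3] at hA'
  exact ⟨hAfix, by rw [show B = A⁻¹ * v by rw [he]; group]; exact mul_mem (inv_mem hAfix) hv⟩

variable {H : Subgroup (GL chevE6.Idx K)} (hH : Over θ q H)
variable (hV : ∀ t : K, Bel θ t ∈ H → θ t = t)
include hθ hH hV

/-- A conjugate of the lowest root element by a fixed element of `U`. -/
theorem bottom_conj_fixed {A : GL chevE6.Idx K} (hA : A ∈ twistedE6 K q)
    (hAU : A ∈ chevE6.posUnipotent K) {μ : K} (hμ : θ μ = μ) (hy : A * Xr 0 μ * A⁻¹ ∈ H) :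
    Fixed chevE6 θ (A * Xr 0 μ * A⁻¹) := by
  obtain ⟨hw0, hl4, hinvl⟩ := topWord_ok
  obtain ⟨m, hm_def⟩ : ∃ m, m = nM K topWord := ⟨_, rfl⟩
  have hm : m ∈ twistedE6 K q := hm_def ▸ nM_mem X hl4
  obtain ⟨A2, B2, hA2, hB2, he⟩ := U_decomp (F := K) hC (lw_lt topWord) 1 (inv_mem hAU)
  rw [tor_one, one_mul] at hA2 hB2
  obtain ⟨η, -, -, e0⟩ := nM_conj (K := K) θ topWord (r := 0) (by norm_num)
  rw [hw0] at e0
  obtain ⟨-, hBfix⟩ := fixed_parts X hm (inv_mem hA) (hm_def ▸ hA2) (hm_def ▸ conj_Uminus hC hB2) he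
  have hcomm : Commute A2 (Xr 0 μ) := by
    have h := top_central hA2 (η * μ)
    rw [← e0] at h
    have h' := congrArg (fun g => (nM K topWord)⁻¹ * g * nM K topWord) h.eq.symm
    simpa [mul_assoc, Commute, SemiconjBy] using h'
  have hBR : B2 ∈ Rad K := by
    rw [show nL hC K (lw topWord) = tor chevE6 (1 : ℕ → Kˣ) * nL hC K (lw topWord) by
      rw [tor_one, one_mul], Uminus_eq hC (lw_lt topWord)] at hB2
    refine (Subgroup.closure_le _).2 ?_ hB2
    rintro g ⟨r, t, hr, rfl⟩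
    obtain ⟨h1, h2, h3⟩ := (mem_invList hC).1 hr
    exact xg_mem_Rad (hinvl r (lt_of_lt_of_eq h1 nroots_eq) h2 h3) t
  have hA' : A = B2⁻¹ * A2⁻¹ := by rw [← mul_inv_rev, ← he, inv_inv]
  have e : A * Xr 0 μ * A⁻¹ = B2⁻¹ * Xr 0 μ * (B2⁻¹)⁻¹ :=
    calc A * Xr 0 μ * A⁻¹ = B2⁻¹ * (A2⁻¹ * (Xr 0 μ * A2)) * B2 := by rw [hA']; group
      _ = _ := by rw [← hcomm.eq]; group
  rw [e] at hy ⊢
  exact rad_fixed X θ hθ hH hV (inv_mem hBfix) (inv_mem hBR) hμ hy

/-- Conjugates of the highest root elements with fixed parameters are fixed. -/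
theorem top_conj_fixed {g : GL chevE6.Idx K} (hg : g ∈ H) {l : K} (hl : θ l = l) :
    Fixed chevE6 θ (g * Xr 71 l * g⁻¹) := by
  have h71 := radical_facts.2.1
  have hX : Xr 71 l ∈ twistedE6 K q := (long_iff X θ hθ R21_ok.2.2.2.1 h71 l).2 hl
  have hy : g * Xr 71 l * g⁻¹ ∈ H :=
    conj_mem hg (hH.fixed_mem _ hX (fixed_xg hC θ hl))
  have hgS : g ∈ Fx X.S := by rw [Fx_twisted X]; exact hH.le hg
  obtain ⟨v, hvU, hvS, n, hn, hnS, u, hu, huS, rfl⟩ := fixed_form X.S hgS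
  have hc := top_central (Uminus_le_U hC n hu) l
  obtain ⟨c, L, hL, rfl⟩ := (mem_N_iff hC).1 hn
  obtain ⟨μ0, -, eμ⟩ := conj_xg (F := K) hC hL c (lt72 R21_ok.2.2.2.1)
  obtain ⟨β, hβ_def⟩ : ∃ β, β = wL chevE6 L 71 := ⟨_, rfl⟩
  have hβ : β < 72 := hβ_def ▸ nroots_eq ▸ wL_lt hC hL (lt72 R21_ok.2.2.2.1)
  have hgβ : gr β = β := by
    have h := fixed_equivariant X.S hL hnS (lt72 R21_ok.2.2.2.1)
    rw [ρ_eq_gr X, h71, ρ_eq_gr X, ← hβ_def] at h
    exact h.symm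
  obtain ⟨μ, hμ_def⟩ : ∃ μ : K, μ = μ0 * l := ⟨_, rfl⟩
  have e : v * (tor chevE6 c * nL hC K L) * u * Xr 71 l * (v * (tor chevE6 c * nL hC K L) * u)⁻¹ =
      v * Xr β μ * v⁻¹ := by
    rw [hμ_def, hβ_def, ← eμ]
    calc _ = v * (tor chevE6 c * nL hC K L) * (u * Xr 71 l) * u⁻¹ *
          (tor chevE6 c * nL hC K L)⁻¹ * v⁻¹ := by group
      _ = _ := by rw [← hc.eq]; group
  rw [e] at hy ⊢
  have hv : v ∈ twistedE6 K q := Fx_twisted X ▸ hvS
  have hμ : θ μ = μ := by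
    refine (long_iff X θ hθ hβ hgβ μ).1 ?_
    have := mul_mem (mul_mem (inv_mem hv) (hH.le hy)) hv
    simpa [mul_assoc] using this
  obtain ⟨hw, hall, -, -⟩ := longWords_ok
  obtain ⟨p, hp, hpβ⟩ := hall β hβ hgβ
  obtain ⟨-, -, hl4, hw0⟩ := hw p hp
  rw [hpβ] at hw0
  obtain ⟨η, -, hηf, e0⟩ := nM_conj (K := K) θ p.2 hβ
  rw [hw0] at e0
  obtain ⟨m, hm_def⟩ : ∃ m, m = nM K p.2 := ⟨_, rfl⟩
  have hm : m ∈ twistedE6 K q := hm_def ▸ nM_mem X hl4
  have hmf : Fixed chevE6 θ m := hm_def ▸ nM_fixed θ p.2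
  obtain ⟨A, B, hA, hB, he⟩ := U_decomp (F := K) hC (lw_lt p.2) 1 hvU
  rw [tor_one, one_mul] at hA hB
  obtain ⟨hAfix, -⟩ := fixed_parts X hm hv (hm_def ▸ hA) (hm_def ▸ conj_Uminus hC hB) he
  have hcV := bottom_central (conj_Uminus hC hB) (η * μ)
  have e' : m * (v * Xr β μ * v⁻¹) * m⁻¹ = m * A * m⁻¹ * Xr 0 (η * μ) * (m * A * m⁻¹)⁻¹ := by
    rw [hm_def, he, ← e0]
    rw [← e0] at hcV
    calc _ = nM K p.2 * A * (nM K p.2)⁻¹ *
          (nM K p.2 * B * (nM K p.2)⁻¹ * (nM K p.2 * Xr β μ * (nM K p.2)⁻¹)) *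
          (nM K p.2 * B * (nM K p.2)⁻¹)⁻¹ * (nM K p.2 * A * (nM K p.2)⁻¹)⁻¹ := by group
      _ = _ := by rw [← hcV.eq]; group
  have hmy := conj_mem (hH.fixed_mem m hm hmf) hy
  rw [e'] at hmy
  have hfix := bottom_conj_fixed X θ hθ hH hV (mul_mem (mul_mem hm hAfix) (inv_mem hm)) (hm_def ▸ hA)
    (by rw [map_mul, hηf, hμ]) hmy
  rw [← e'] at hfix
  have h := Fixed.mul θ (Fixed.mul θ (Fixed.inv θ hmf) hfix) hmf
  simpa [mul_assoc] using h

/-- Conjugates of all long root elements with fixed parameters are fixed. -/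
theorem long_conj_fixed {g : GL chevE6.Idx K} (hg : g ∈ H) {r : ℕ} (hr : r < 72) (hgr : gr r = r)
    {l : K} (hl : θ l = l) : Fixed chevE6 θ (g * Xr r l * g⁻¹) := by
  obtain ⟨hw0, hl4', -⟩ := topWord_ok
  obtain ⟨hw, hall, -, -⟩ := longWords_ok
  obtain ⟨p, hp, hpr⟩ := hall r hr hgr
  obtain ⟨-, -, hl4, hwr⟩ := hw p hp
  rw [hpr] at hwr
  obtain ⟨η, -, hηf, e⟩ := nM_conj (K := K) θ p.2 hr
  obtain ⟨η', -, hηf', e'⟩ := nM_conj (K := K) θ topWord (r := 0) (by norm_num)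
  rw [hwr] at e; rw [hw0] at e'
  have hm : nM K topWord * nM K p.2 ∈ H := hH.fixed_mem _ (mul_mem (nM_mem X hl4') (nM_mem X hl4))
    (Fixed.mul θ (nM_fixed θ _) (nM_fixed θ _))
  have h := top_conj_fixed X θ hθ hH hV (mul_mem hg (inv_mem hm)) (l := η' * (η * l))
    (by rw [map_mul, map_mul, hηf', hηf, hl])
  rw [← e', ← e] at h
  convert h using 1
  group

end Cfsg.Agent.SimpleFacts.TwistedSubfield
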