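import Cfsg.Agent.SimpleFacts.TwistedSubfield.Good

/-!
Radical elements of the twisted group carrying a fixed lowest root element into a proper overgroup of
the fixed points are fixed.
-/

set_option autoImplicit false
set_option linter.unusedSectionVars false

namespace Cfsg.Agent.SimpleFacts.TwistedSubfield

open Cfsg.Lie Cfsg.Agent.Chevalley Cfsg.Agent.Chevalley.Table Cfsg.Agent.Chevalley.Cert
  Cfsg.Agent.Chevalley.Group Cfsg.Agent.Chevalley.Unip Cfsg.Agent.Chevalley.Borel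
  Cfsg.Agent.Chevalley.Weyl Cfsg.Agent.Chevalley.FieldAut
  Cfsg.Agent.SimpleFacts.ChevalleySubfield Cfsg.Agent.SimpleFacts.SubfieldOvergroup
  Cfsg.Agent.Chevalley.Twist Cfsg.Agent.Chevalley.Twist.E6

/-- The roots fixed by the graph permutation in the radical. -/
abbrev longs20 : List ℕ := [46, 47, 51, 53, 63, 65, 69, 70]

/-- The deviation at `s` stays zero after moving by the partner of `x`. -/
abbrev safe (Z : List ℕ) (x s : ℕ) : Prop :=
  s ∈ Z ∨ (s ∈ longs20 ∧ ∀ s' ∈ R20, s' ∈ Z ++ longs20 ∨ cf (gr x) s' s = 0)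

/-- A killing step: the mover `x`, the killed root `b`, the source `a` and the sign. -/
abbrev killOk (Z : List ℕ) (x b a : ℕ) (n : ℤ) : Prop :=
  okX x ∧ okX (gr x) ∧ gr (gr x) = x ∧
  (∀ y ∈ [x, gr x], y ≠ 0 ∧ 0 ≠ chevE6.neg y ∧ chevE6.commTerms y 0 = []) ∧
  (gr x = x ∨ (gr x ≠ chevE6.neg x ∧ chevE6.commTerms x (gr x) = [])) ∧
  b ∈ R20 ∧ gr b ∈ R20 ∧ (a = 48 ∨ a = 50) ∧ (n = 1 ∨ n = -1) ∧ cf x a b = n ∧
  (∀ s ∈ R20, s = a ∨ safe Z x s ∨ cf x s b = 0) ∧
  (gr x = x ∨ ∀ s ∈ R20, s ∈ Z ++ longs20 ∨ cf (gr x) s b = 0) ∧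
  (∀ k ∈ 48 :: 50 :: Z, k ∈ R20 ∧ ∀ s ∈ R20, (safe Z x s ∨ cf x s k = 0) ∧
    (s ∈ Z ++ longs20 ∨ cf (gr x) s k = 0))

set_option synthInstance.maxSize 1024 in
set_option maxRecDepth 8000 in
theorem kill_steps : killOk [] 36 49 48 1 ∧ killOk ([49, 61] ++ []) 38 52 50 1 ∧
    killOk ([52, 62] ++ ([49, 61] ++ [])) 41 54 50 (-1) ∧
    killOk ([54, 64] ++ ([52, 62] ++ ([49, 61] ++ []))) 45 55 48 (-1) ∧
    killOk ([55, 67] ++ ([54, 64] ++ ([52, 62] ++ ([49, 61] ++ [])))) 60 66 48 (-1) := by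
  refine ⟨?_, ?_, ?_, ?_, ?_⟩ <;> decide +kernel

theorem pair_facts : gr 49 = 61 ∧ gr 52 = 62 ∧ gr 54 = 64 ∧ gr 55 = 67 ∧ gr 66 = 68 ∧ gr 48 = 50 ∧
    (∀ k ∈ longs20, k ∈ R20 ∧ gr k = k) := by
  decide +kernel

/-- The radical roots grouped by orbits, the pair of 48 last. -/
abbrev blocks : List (List ℕ) :=
  [[46], [47], [51], [53], [63], [65], [69], [70], [49, 61], [52, 62], [54, 64], [55, 67], [66, 68]]

theorem blocks_ok : (∀ j ∈ R20, (blocks.flatten ++ [48, 50]).filter (fun k => k = j) = [j]) ∧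
    (∀ k ∈ blocks.flatten ++ [48, 50], k ∈ R20) ∧
    (∀ l ∈ [48, 50] :: blocks, ∀ k ∈ l, k ∈ R20) ∧
    ∀ l ∈ [48, 50] :: blocks, (∃ k ∈ R20, l = [k] ∧ gr k = k) ∨
      ∃ k ∈ R20, l = [k, gr k] ∧ gr k ≠ k := by
  decide +kernel

theorem move_facts : wL chevE6 (lw [3]) 49 = 48 ∧ wL chevE6 (lw [2]) 52 = 49 ∧
    wL chevE6 (lw [1]) 54 = 52 ∧ wL chevE6 (lw [2]) 55 = 54 ∧ wL chevE6 (lw [3]) 66 = 55 := by
  decide +kernel

theorem final_facts : chevE6.commTerms 50 0 = [(5, -1, 1, 1)] ∧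
    chevE6.commTerms 48 0 = [(3, -1, 1, 1)] ∧ chevE6.commTerms 48 5 = [(11, -1, 1, 1)] ∧
    (∀ s ∈ [0, 5], ∀ y ∈ [48, 50], s ≠ y ∧ s ≠ chevE6.neg y) ∧
    wL chevE6 (lw [2, 3, 1, 2, 0, 1, 2, 3]) 3 = 42 ∧
    wL chevE6 (lw [2, 3, 1, 2, 0, 1, 2, 3]) 5 = 37 ∧
    wL chevE6 (lw [2, 3, 1, 2, 0, 1, 2, 3]) 11 = 69 ∧ gr 69 = 69 ∧
    chevE6.commTerms 42 37 = [] ∧ chevE6.commTerms 42 69 = [] ∧ chevE6.commTerms 37 69 = [] ∧
    37 ≠ chevE6.neg 42 ∧ 69 ≠ chevE6.neg 42 ∧ 69 ≠ chevE6.neg 37 ∧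
    (∀ r ∈ [37, 42, 69], r < 72 ∧ 0 < Data.E6.tab.phi r) ∧ chevE6.simple 2 = 42 ∧
    chevE6.simple 4 = 37 := by
  decide +kernel

variable {K : Type*} [Field K] [Fintype K] {q : ℕ} {hK : Fintype.card K = q ^ 2}
variable (X : Setup (K := K) hK) (θ : K →+* K) (hθ : ∀ t, θ t = t ^ q)
variable {H : Subgroup (GL chevE6.Idx K)} (hH : Over θ q H)

local notation "Xr" => xg (F := K) hC

/-- The two root elements in general position. -/
noncomputable abbrev Bel (θ : K →+* K) (t : K) : GL chevE6.Idx K :=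
  xg hC 42 t * xg hC 37 (θ t)

include X hθ hH

theorem kill {r : GL chevE6.Idx K} {μ : K} {f : ℕ → K} (h : Good θ q H r μ f)
    (h48 : dev θ f 48 ≠ 0) {Z : List ℕ} (hZ : ∀ k ∈ Z, dev θ f k = 0) {x b a : ℕ} {n : ℤ}
    (hok : killOk Z x b a n) : ∃ r' g, Good θ q H r' μ g ∧ dev θ g 48 ≠ 0 ∧
      ∀ k ∈ [b, gr b] ++ Z, dev θ g k = 0 := by
  obtain ⟨hx, hgx, hxx, hcomm0, hpair, hb, hgb, ha48, hn, hcf, hsrc, hsrc', hkeep⟩ := hok
  have h48R : (48 : ℕ) ∈ R20 := (hkeep 48 List.mem_cons_self).1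
  have h50R : (50 : ℕ) ∈ R20 := (hkeep 50 (List.mem_cons_of_mem _ List.mem_cons_self)).1
  have haR : a ∈ R20 := by rcases ha48 with rfl | rfl <;> assumption
  have h50 : dev θ f 50 ≠ 0 := by
    have hp := dev_partner X θ hθ h.mem h.coord h48R
    rw [pair_facts.2.2.2.2.2.1] at hp
    exact fun e => h48 (hp.2 e)
  have hda : dev θ f a ≠ 0 := by rcases ha48 with rfl | rfl <;> assumption
  have h2 : ∀ t, θ (θ t) = t := theta2 θ hθ hK
  have hnn : (n : K) * n = 1 := by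
    rcases hn with rfl | rfl <;> norm_num
  obtain ⟨u, hu_def⟩ : ∃ u : K, u = -(n : K) * dev θ f b / dev θ f a := ⟨_, rfl⟩
  have hu : θ u = u := by
    rw [hu_def, map_div₀, map_mul, map_neg, map_intCast, dev_anti θ h2, dev_anti θ h2]
    field_simp
  have hzero : dev θ f b + u * ((n : K) * dev θ f a) = 0 := by
    rw [hu_def]
    field_simp
    linear_combination -dev θ f b * hnn
  have hxlt := hx.1
  have hgxlt := hgx.1
  have hcm : ∀ y ∈ [x, gr x], ∀ v : K, Commute (Xr y v) (Xr 0 μ) := fun y hy v => by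
    obtain ⟨h1, h2, h3⟩ := hcomm0 y hy
    refine xg_commute_of_nil ?_ (by norm_num) h1.symm h2 h3 v μ
    simp only [List.mem_cons, List.not_mem_nil, or_false] at hy
    rcases hy with rfl | rfl <;> assumption
  -- conclusion from the effect on the coordinates
  have finish : ∀ (m : GL chevE6.Idx K) (g : ℕ → K), Coord (m * r * m⁻¹) g →
      m ∈ twistedE6 K q → Fixed chevE6 θ m → Commute m (Xr 0 μ) →
      dev θ g 48 = dev θ f 48 → (∀ k ∈ Z, dev θ g k = 0) → dev θ g b = 0 →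
      ∃ r' g, Good θ q H r' μ g ∧ dev θ g 48 ≠ 0 ∧ ∀ k ∈ [b, gr b] ++ Z, dev θ g k = 0 := by
    intro m g hg hm hmf hmc e48 eZ eb
    have hgood := h.conj_of_commute θ hH hm hmf hmc hg
    refine ⟨_, g, hgood, e48 ▸ h48, fun k hk => ?_⟩
    simp only [List.mem_append, List.mem_cons, List.not_mem_nil, or_false] at hk
    rcases hk with (rfl | rfl) | hk
    · exact eb
    · exact (dev_partner X θ hθ hgood.mem hg hb).1 eb
    · exact eZ k hk
  have hZL : ∀ k ∈ Z ++ longs20, dev θ f k = 0 := fun k hk => (List.mem_append.1 hk).elim (hZ k)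
    fun hl => dev_long X θ hθ h.mem h.coord (pair_facts.2.2.2.2.2.2 k hl).1
      (pair_facts.2.2.2.2.2.2 k hl).2
  have hsafe : ∀ {s : ℕ}, safe Z x s → s ∈ Z ++ longs20 := fun hs =>
    hs.elim (fun h => List.mem_append_left _ h) fun h => List.mem_append_right _ h.1
  by_cases hsingle : gr x = x
  · refine finish (Xr x u) _ (h.coord.conj hx u) ((long_iff X θ hθ hxlt hsingle u).2 hu)
      (fixed_xg hC θ hu) (hcm x List.mem_cons_self u) ?_ (fun k hk => ?_) ?_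
    · exact dev_step_same θ hu f h48R hZL fun s hs =>
        (((hkeep 48 List.mem_cons_self).2 s hs).1).imp_left hsafe
    · obtain ⟨hkR, hks⟩ := hkeep k (List.mem_cons_of_mem _ (List.mem_cons_of_mem _ hk))
      rw [dev_step_same θ hu f hkR hZL fun s hs => (hks s hs).1.imp_left hsafe, hZ k hk]
    · rw [dev_step_eq θ hu f hb haR hcf hZL fun s hs => (hsrc s hs).imp_right
        fun h => h.imp_left hsafe, hzero]
  · obtain ⟨hxn, hxc⟩ := hpair.resolve_left hsingle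
    have hsrc'' := hsrc'.resolve_left hsingle
    obtain ⟨-, e, he, -, hact, hinv⟩ := act_facts X θ hθ x (lt72 hxlt)
    obtain ⟨v, hv_def⟩ : ∃ v : K, v = X.S.act x u := ⟨_, rfl⟩
    have hv : θ v = v := by rw [hv_def, hact, map_mul, he, h2, hu]
    have hcxy : Commute (Xr x u) (Xr (gr x) v) :=
      xg_commute_of_nil hxlt hgxlt hsingle hxn hxc u v
    have hm : Xr x u * Xr (gr x) v ∈ twistedE6 K q := by
      rw [← Fx_twisted X, mem_Fx]
      have h1 := img_xg X.S (lt72 hxlt) u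
      have h3 := img_xg X.S (lt72 hgxlt) v
      rw [ρ_eq_gr X, ← hv_def] at h1
      rw [ρ_eq_gr X, hxx, hv_def, hinv, ← hv_def] at h3
      have h4 := h1.mul h3
      rwa [← hcxy.eq] at h4
    have hg1 := h.coord.conj hgx v
    have hg2 := hg1.conj hx u
    rw [show Xr x u * (Xr (gr x) v * r * (Xr (gr x) v)⁻¹) * (Xr x u)⁻¹ =
      Xr x u * Xr (gr x) v * r * (Xr x u * Xr (gr x) v)⁻¹ by group] at hg2
    have d1 : ∀ k ∈ 48 :: 50 :: Z, dev θ (stepF (gr x) v R20 f) k = dev θ f k := fun k hk =>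
      dev_step_same θ hv f (hkeep k hk).1 hZL fun s hs => ((hkeep k hk).2 s hs).2
    have hS : ∀ {s : ℕ}, s ∈ R20 → safe Z x s → s ∈ R20.filter (fun s => decide (safe Z x s)) :=
      fun hs h => List.mem_filter.2 ⟨hs, decide_eq_true h⟩
    have hZ1 : ∀ s ∈ R20.filter (fun s => decide (safe Z x s)),
        dev θ (stepF (gr x) v R20 f) s = 0 := by
      intro s hs
      rw [List.mem_filter, decide_eq_true_eq] at hs
      rcases hs.2 with h' | ⟨hl, h'⟩
      · rw [d1 s (List.mem_cons_of_mem _ (List.mem_cons_of_mem _ h')), hZ s h']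
      · rw [dev_step_same θ hv f hs.1 hZL h', hZL s (List.mem_append_right _ hl)]
    refine finish _ _ hg2 hm (Fixed.mul θ (fixed_xg hC θ hu) (fixed_xg hC θ hv))
      ((hcm x List.mem_cons_self u).mul_left
        (hcm (gr x) (List.mem_cons_of_mem _ List.mem_cons_self) v)) ?_ (fun k hk => ?_) ?_
    · rw [dev_step_same θ hu _ h48R hZ1 fun s hs =>
          (((hkeep 48 List.mem_cons_self).2 s hs).1).imp_left (hS hs), d1 48 List.mem_cons_self]
    · obtain ⟨hkR, hks⟩ := hkeep k (List.mem_cons_of_mem _ (List.mem_cons_of_mem _ hk))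
      rw [dev_step_same θ hu _ hkR hZ1 fun s hs => (hks s hs).1.imp_left (hS hs),
        d1 k (List.mem_cons_of_mem _ (List.mem_cons_of_mem _ hk)), hZ k hk]
    · rw [dev_step_eq θ hu _ hb haR hcf hZ1 fun s hs => (hsrc s hs).imp_right
          fun h => h.imp_left (hS hs),
        dev_step_same θ hv f hb hZL hsrc'', d1 a (by rcases ha48 with rfl | rfl <;> simp), hzero]

omit hH in
theorem block_mem {r : GL chevE6.Idx K} (hr : r ∈ twistedE6 K q) {f : ℕ → K} (hf : Coord r f)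
    {l : List ℕ} (hl : l ∈ [48, 50] :: blocks) : prodX hC l f ∈ twistedE6 K q := by
  rcases blocks_ok.2.2.2 l hl with ⟨k, hk, rfl, hg⟩ | ⟨k, hk, rfl, hg⟩
  · simp only [prodX, List.map_singleton, List.prod_singleton]
    have hlt := (R21_ok.2.2.1 k (mem_R21 hk)).1
    have h := coord_symm X θ hθ hr hf k hk
    rw [hg] at h
    exact (img_fixed_iff X hlt hg _).2 h.symm
  · obtain ⟨hne, hn, hc⟩ := (radical_facts.2.2.2 k hk).resolve_left hg
    have hlt := (R21_ok.2.2.1 k (mem_R21 hk)).1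
    have hlt' := (R21_ok.2.2.1 (gr k) (mem_R21 (radical_facts.1 k hk).1)).1
    have h := coord_symm X θ hθ hr hf k hk
    obtain ⟨hgg, e, -, -, -, hinv⟩ := act_facts X θ hθ k (lt72 hlt)
    have h1 := img_xg X.S (lt72 hlt) (f k)
    have h3 := img_xg X.S (lt72 hlt') (f (gr k))
    rw [ρ_eq_gr X, ← h] at h1
    rw [ρ_eq_gr X, hgg, h, hinv, ← h] at h3
    have hcm := xg_commute_of_nil (K := K) hlt hlt' (Ne.symm hne) hn hc (f k) (f (gr k))
    have h4 := h1.mul h3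
    rw [← hcm.eq] at h4
    simp only [prodX, List.map_cons, List.map_nil, List.prod_cons, List.prod_nil, mul_one]
    rw [← Fx_twisted X, mem_Fx]
    exact h4

omit hH in
/-- The orbit decomposition of a radical element of the twisted group. -/
theorem exists_blocks {r : GL chevE6.Idx K} (hr : r ∈ twistedE6 K q) {f : ℕ → K} (hf : Coord r f)
    (hdev : ∀ k ∈ blocks.flatten, dev θ f k = 0) :
    ∃ A : GL chevE6.Idx K, A ∈ twistedE6 K q ∧ Fixed chevE6 θ A ∧
      Xr 48 (f 48) * Xr 50 (f 50) ∈ twistedE6 K q ∧ r = A * (Xr 48 (f 48) * Xr 50 (f 50)) := by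
  have hmem : ∀ L : List (List ℕ), (∀ l ∈ L, l ∈ [48, 50] :: blocks) →
      prodX hC L.flatten f ∈ twistedE6 K q := by
    intro L
    induction L with
    | nil => intro _; simpa [prodX] using one_mem _
    | cons l L ih =>
      intro hL
      rw [List.flatten_cons, prodX, List.map_append, List.prod_append]
      exact mul_mem (block_mem X θ hθ hr hf (hL l List.mem_cons_self))
        (ih fun l' hl' => hL l' (List.mem_cons_of_mem l hl'))
  have hA := hmem blocks fun l hl => List.mem_cons_of_mem _ hl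
  have hP : Xr 48 (f 48) * Xr 50 (f 50) ∈ twistedE6 K q := by
    simpa [prodX] using block_mem X θ hθ hr hf (List.mem_cons_self (a := [48, 50]) (l := blocks))
  have hc : Coord (prodX hC (blocks.flatten ++ [48, 50]) f) f :=
    (Coord.list (K := K) (fun k => k) f _ fun k hk => blocks_ok.2.1 k hk).congr fun j hj => by
      rw [blocks_ok.1 j hj]; simp
  have e : prodX hC (blocks.flatten ++ [48, 50]) f =
      prodX hC blocks.flatten f * (Xr 48 (f 48) * Xr 50 (f 50)) := by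
    rw [prodX, prodX, List.map_append, List.prod_append]
    simp
  rw [e] at hc
  obtain ⟨z, hz⟩ := id hf
  obtain ⟨w, hw⟩ := hc
  have hr' : r = prodX hC blocks.flatten f * (Xr 48 (f 48) * Xr 50 (f 50)) * Xr 71 (z - w) := by
    rw [hw, hz, sub_eq_neg_add, xg_add hC 71 (-w), ← xg_inv hC]
    group
  have h71 : Xr 71 (z - w) ∈ twistedE6 K q := by
    have := mul_mem (inv_mem (mul_mem hA hP)) hr
    rwa [hr', inv_mul_cancel_left] at this
  have hfix71 : Fixed chevE6 θ (Xr 71 (z - w)) :=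
    fixed_xg hC θ ((long_iff X θ hθ R21_ok.2.2.2.1 radical_facts.2.1 _).1 h71)
  have hfA : Fixed chevE6 θ (prodX hC blocks.flatten f) := by
    have : ∀ L : List ℕ, (∀ k ∈ L, dev θ f k = 0) → Fixed chevE6 θ (prodX hC L f) := by
      intro L
      induction L with
      | nil => intro _; exact map_one _
      | cons a L ih =>
        intro hL
        rw [show prodX hC (a :: L) f = Xr a (f a) * prodX hC L f by simp [prodX]]
        exact Fixed.mul θ (fixed_xg hC θ (sub_eq_zero.1 (hL a List.mem_cons_self)))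
          (ih fun k hk => hL k (List.mem_cons_of_mem a hk))
    exact this _ hdev
  have hcz := top_central (K := K) (mul_mem (mem_U (K := K) (r := 48) (by decide) (f 48))
    (mem_U (K := K) (r := 50) (by decide) (f 50))) (z - w)
  refine ⟨prodX hC blocks.flatten f * Xr 71 (z - w), mul_mem hA h71, Fixed.mul θ hfA hfix71, hP, ?_⟩
  rw [mul_assoc _ (Xr 71 (z - w)), hcz.eq, ← mul_assoc]
  exact hr'

omit hH in
/-- An orbit pair of the radical turns a lowest root element into two root elements in general position. -/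
theorem pair_to_bel {μ t t' : K} (hP : Xr 48 t * Xr 50 t' ∈ twistedE6 K q) (hμ : θ μ = μ) :
    ∃ (m : GL chevE6.Idx K) (η d : K), m ∈ twistedE6 K q ∧ Fixed chevE6 θ m ∧ η ≠ 0 ∧ θ η = η ∧
      θ d = d ∧ m * ((Xr 0 μ)⁻¹ * (Xr 48 t * Xr 50 t' * Xr 0 μ * (Xr 48 t * Xr 50 t')⁻¹)) * m⁻¹ =
        Bel θ (η * (-t * μ)) * Xr 69 d := by
  obtain ⟨c50, c48, c485, hne, w3, w5, w11, g69, cA, cB, cC, n1, n2, n3, hlt3, s2, s4⟩ := final_facts
  have e50 := conj_term (K := K) (x := 50) (s := 0) (by norm_num) (by norm_num)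
    (hne 0 (by simp) 50 (by simp)).1 (hne 0 (by simp) 50 (by simp)).2 (by simp [c50]) t' μ
  have e48 := conj_term (K := K) (x := 48) (s := 0) (by norm_num) (by norm_num)
    (hne 0 (by simp) 48 (by simp)).1 (hne 0 (by simp) 48 (by simp)).2 (by simp [c48]) t μ
  have e485 := conj_term (K := K) (x := 48) (s := 5) (by norm_num) (by norm_num)
    (hne 5 (by simp) 48 (by simp)).1 (hne 5 (by simp) 48 (by simp)).2 (by simp [c485]) t
    (-t' * μ)
  simp only [c50, c48, c485, List.map_cons, List.map_nil, List.prod_cons, List.prod_nil, mul_one,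
    Int.cast_neg, Int.cast_one, neg_one_mul] at e50 e48 e485
  obtain ⟨w, hw⟩ : ∃ w : K, Xr 48 t * Xr 50 t' * Xr 0 μ * (Xr 48 t * Xr 50 t')⁻¹
      = Xr 0 μ * (Xr 3 (-t * μ) * (Xr 5 (-t' * μ) * Xr 11 w)) := by
    refine ⟨-t * (-t' * μ), ?_⟩
    rw [show Xr 48 t * Xr 50 t' * Xr 0 μ * (Xr 48 t * Xr 50 t')⁻¹ =
      Xr 48 t * (Xr 50 t' * Xr 0 μ * (Xr 50 t')⁻¹) * (Xr 48 t)⁻¹ by group, e50]
    rw [show Xr 48 t * (Xr 0 μ * Xr 5 (-t' * μ)) * (Xr 48 t)⁻¹ =
      (Xr 48 t * Xr 0 μ * (Xr 48 t)⁻¹) *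
        (Xr 48 t * Xr 5 (-t' * μ) * (Xr 48 t)⁻¹) by group, e48, e485, mul_assoc]
  have hX0 : Xr 0 μ ∈ twistedE6 K q := (long_iff X θ hθ (by norm_num) radical_facts.2.2.1 μ).2 hμ
  have hl : ∀ a ∈ [2, 3, 1, 2, 0, 1, 2, 3], a < 4 := by decide
  obtain ⟨η, hη, hηf, e3⟩ := nM_conj θ [2, 3, 1, 2, 0, 1, 2, 3] (r := 3) (by norm_num)
  obtain ⟨η', -, -, e5⟩ := nM_conj θ [2, 3, 1, 2, 0, 1, 2, 3] (r := 5) (by norm_num)
  obtain ⟨η'', -, -, e11⟩ := nM_conj θ [2, 3, 1, 2, 0, 1, 2, 3] (r := 11) (by norm_num)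
  rw [w3] at e3; rw [w5] at e5; rw [w11] at e11
  obtain ⟨m, hm_def⟩ : ∃ m, m = nM K [2, 3, 1, 2, 0, 1, 2, 3] := ⟨_, rfl⟩
  have hQ : m * ((Xr 0 μ)⁻¹ * (Xr 48 t * Xr 50 t' * Xr 0 μ * (Xr 48 t * Xr 50 t')⁻¹)) * m⁻¹ ∈
      twistedE6 K q :=
    conj_mem (hm_def ▸ nM_mem X hl) (mul_mem (inv_mem hX0) (conj_mem hP hX0))
  rw [hw, inv_mul_cancel_left] at hQ
  rw [show m * (Xr 3 (-t * μ) * (Xr 5 (-t' * μ) * Xr 11 w)) * m⁻¹ =
    m * Xr 3 (-t * μ) * m⁻¹ * ((m * Xr 5 (-t' * μ) * m⁻¹) * (m * Xr 11 w * m⁻¹)) by group,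
    hm_def, e3, e5, e11] at hQ
  obtain ⟨a, ha_def⟩ : ∃ a : K, a = η * (-t * μ) := ⟨_, rfl⟩
  obtain ⟨a', ha'_def⟩ : ∃ a' : K, a' = η' * (-t' * μ) := ⟨_, rfl⟩
  obtain ⟨d, hd_def⟩ : ∃ d : K, d = η'' * w := ⟨_, rfl⟩
  rw [← ha_def, ← ha'_def, ← hd_def] at hQ
  -- uniqueness of the coordinates of the fixed element
  have i2 := img_xg X.S (r := 42) (lt72 (by norm_num)) a
  have i4 := img_xg X.S (r := 37) (lt72 (by norm_num)) a'
  have i9 := img_xg X.S (r := 69) (lt72 (by norm_num)) d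
  have a2 : X.S.act 42 a = θ a := by
    rw [← s2, X.S.act_simple 2 (by decide +kernel), X.hom_eq 2 (by norm_num), hθ]
  rw [ρ_eq_gr X, gr_simple_pair.2.2.1, a2] at i2
  rw [ρ_eq_gr X, gr_simple_pair.2.2.2] at i4
  rw [ρ_eq_gr X, g69] at i9
  have hQ' := hQ
  rw [← Fx_twisted X, mem_Fx] at hQ'
  have e := hQ'.unique (i2.mul (i4.mul i9))
  have l37 := (hlt3 37 (by simp)).1
  have l42 := (hlt3 42 (by simp)).1
  have l69 := (hlt3 69 (by simp)).1
  have c1 : ∀ s t : K, Commute (Xr 42 s) (Xr 37 t) := fun s t =>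
    xg_commute_of_nil l42 l37 (by norm_num) n1 cA s t
  have c2 : ∀ s t : K, Commute (Xr 42 s) (Xr 69 t) := fun s t =>
    xg_commute_of_nil l42 l69 (by norm_num) n2 cB s t
  have c3 : ∀ s t : K, Commute (Xr 37 s) (Xr 69 t) := fun s t =>
    xg_commute_of_nil l37 l69 (by norm_num) n3 cC s t
  classical
  have e' : prodX hC [37, 42, 69] (fun r => if r = 37 then a' else if r = 42 then a else d) =
      prodX hC [37, 42, 69] (fun r => if r = 37 then θ a else if r = 42 then X.S.act 37 a'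
        else X.S.act 69 d) := by
    simp only [prodX, List.map_cons, List.map_nil, List.prod_cons, List.prod_nil, mul_one]
    norm_num
    rw [← mul_assoc, ← (c1 a a').eq, mul_assoc, e]
  have hinj := prodX_inj (F := K) hC (L := [37, 42, 69]) (by decide)
    (fun r hr => ⟨lt72 (hlt3 r hr).1, (hlt3 r hr).2⟩) e'
  have ea' := hinj 37 (by simp)
  have ed := hinj 69 (by simp)
  norm_num at ea' ed
  have hd : θ d = d := (long_iff X θ hθ l69 g69 d).1 ((img_fixed_iff X l69 g69 d).2 ed.symm)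
  refine ⟨_, η, d, nM_mem X hl, nM_fixed θ _, hη, hηf, hd, ?_⟩
  rw [hw, inv_mul_cancel_left]
  rw [show nM K [2, 3, 1, 2, 0, 1, 2, 3] * (Xr 3 (-t * μ) * (Xr 5 (-t' * μ) * Xr 11 w)) *
    (nM K [2, 3, 1, 2, 0, 1, 2, 3])⁻¹ =
    nM K [2, 3, 1, 2, 0, 1, 2, 3] * Xr 3 (-t * μ) * (nM K [2, 3, 1, 2, 0, 1, 2, 3])⁻¹ *
      ((nM K [2, 3, 1, 2, 0, 1, 2, 3] * Xr 5 (-t' * μ) * (nM K [2, 3, 1, 2, 0, 1, 2, 3])⁻¹) *
        (nM K [2, 3, 1, 2, 0, 1, 2, 3] * Xr 11 w * (nM K [2, 3, 1, 2, 0, 1, 2, 3])⁻¹)) by group,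
    e3, e5, e11, ← ha_def, ← ha'_def, ← hd_def, ea', ← mul_assoc]

variable (hV : ∀ t : K, Bel θ t ∈ H → θ t = t)
include hV

theorem dev48_zero {r : GL chevE6.Idx K} {μ : K} {f : ℕ → K} (h0 : Good θ q H r μ f) :
    dev θ f 48 = 0 := by
  by_contra h48
  obtain ⟨k1, k2, k3, k4, k5⟩ := kill_steps
  obtain ⟨g49, g52, g54, g55, g66, g48, hlong⟩ := pair_facts
  obtain ⟨r, f, h, h48, hZ⟩ := kill X θ hθ hH h0 h48
    (fun k hk => absurd hk List.not_mem_nil) k1
  rw [g49] at hZ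
  obtain ⟨r, f, h, h48, hZ⟩ := kill X θ hθ hH h h48 hZ k2
  rw [g52] at hZ
  obtain ⟨r, f, h, h48, hZ⟩ := kill X θ hθ hH h h48 hZ k3
  rw [g54] at hZ
  obtain ⟨r, f, h, h48, hZ⟩ := kill X θ hθ hH h h48 hZ k4
  rw [g55] at hZ
  obtain ⟨r, f, h, h48, hZ⟩ := kill X θ hθ hH h h48 hZ k5
  rw [g66] at hZ
  have hZ' : ∀ k ∈ [66, 68, 55, 67, 54, 64, 52, 62, 49, 61] ++ longs20, dev θ f k = 0 :=
    fun k hk => (List.mem_append.1 hk).elim (hZ k)
      fun hl => dev_long X θ hθ h.mem h.coord (hlong k hl).1 (hlong k hl).2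
  obtain ⟨A, hA, hAf, hP, hr⟩ := exists_blocks X θ hθ h.mem h.coord fun k hk => hZ' k (by
    simp only [blocks, List.flatten_cons, List.flatten_nil, List.cons_append, List.nil_append,
      List.mem_cons, List.not_mem_nil, or_false] at hk
    simp only [longs20, List.cons_append, List.nil_append, List.mem_cons, List.not_mem_nil,
      or_false]
    omega)
  have hyH : Xr 48 (f 48) * Xr 50 (f 50) * Xr 0 μ * (Xr 48 (f 48) * Xr 50 (f 50))⁻¹ ∈ H := by
    have h' := h.conj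
    rw [hr] at h'
    refine (conj_mem_iff (hH.fixed_mem A hA hAf)).1 ?_
    convert h' using 1
    group
  obtain ⟨m, η, d, hm, hmf, hη, hηf, hd, e⟩ := pair_to_bel X θ hθ hP h.mu_fixed
  have hX0 : Xr 0 μ ∈ H := hH.fixed_mem _
    ((long_iff X θ hθ (by norm_num) radical_facts.2.2.1 μ).2 h.mu_fixed) (fixed_xg hC θ h.mu_fixed)
  have h69 : Xr 69 d ∈ H :=
    hH.fixed_mem _ ((long_iff X θ hθ (by norm_num) final_facts.2.2.2.2.2.2.2.1 d).2 hd)
      (fixed_xg hC θ hd)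
  have hQ := conj_mem (hH.fixed_mem m hm hmf) (mul_mem (inv_mem hX0) hyH)
  rw [e, Subgroup.mul_mem_cancel_right _ h69] at hQ
  have hfix := hV _ hQ
  rw [map_mul, map_mul, map_neg, hηf, h.mu_fixed] at hfix
  have h3 := mul_right_cancel₀ h.mu_ne (mul_left_cancel₀ hη hfix)
  exact h48 (sub_eq_zero.2 (neg_inj.1 h3))

/-- All deviations vanish. -/
theorem dev_zero {r : GL chevE6.Idx K} {μ : K} {f : ℕ → K} (h : Good θ q H r μ f) :
    ∀ k ∈ blocks.flatten ++ [48, 50], dev θ f k = 0 := by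
  obtain ⟨g49, g52, g54, g55, g66, g48, hlong⟩ := pair_facts
  obtain ⟨v49, v52, v54, v55, v66⟩ := move_facts
  have step : ∀ {a k j : ℕ}, a ∈ leviOrbs → k ∈ R20 → wL chevE6 (lw [a]) k = j →
      (∀ r μ f, Good θ q H r μ f → dev θ f j = 0) → ∀ r μ f, Good θ q H r μ f → dev θ f k = 0 := by
    intro a k j ha hk hw hj r μ f hg
    obtain ⟨r', μ', g, hg', hd⟩ := hg.levi X θ hθ hH ha
    obtain ⟨η, hη, e⟩ := hd k hk
    rw [hw, hj r' μ' g hg'] at e
    exact (mul_eq_zero.1 e.symm).resolve_left hη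
  have b48 : ∀ r μ f, Good θ q H r μ f → dev θ f 48 = 0 := fun r μ f hg =>
    dev48_zero X θ hθ hH hV hg
  have b49 := step (a := 3) (by decide) (k := 49) (by decide) v49 b48
  have b52 := step (a := 2) (by decide) (k := 52) (by decide) v52 b49
  have b54 := step (a := 1) (by decide) (k := 54) (by decide) v54 b52
  have b55 := step (a := 2) (by decide) (k := 55) (by decide) v55 b54
  have b66 := step (a := 3) (by decide) (k := 66) (by decide) v66 b55
  have p : ∀ {k j : ℕ}, k ∈ R20 → gr k = j → dev θ f k = 0 → dev θ f j = 0 := fun hk e h0 =>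
    e ▸ (dev_partner X θ hθ h.mem h.coord hk).1 h0
  intro k hk
  simp only [blocks, List.flatten_cons, List.flatten_nil, List.cons_append, List.nil_append,
    List.mem_cons, List.not_mem_nil, or_false] at hk
  rcases hk with rfl | rfl | rfl | rfl | rfl | rfl | rfl | rfl | rfl | rfl | rfl | rfl | rfl | rfl |
    rfl | rfl | rfl | rfl | rfl | rfl
  all_goals first
    | exact dev_long X θ hθ h.mem h.coord (hlong _ (by decide)).1 (hlong _ (by decide)).2
    | exact b48 r μ f h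
    | exact b49 r μ f h
    | exact b52 r μ f h
    | exact b54 r μ f h
    | exact b55 r μ f h
    | exact b66 r μ f h
    | exact p (by decide) g49 (b49 r μ f h)
    | exact p (by decide) g52 (b52 r μ f h)
    | exact p (by decide) g54 (b54 r μ f h)
    | exact p (by decide) g55 (b55 r μ f h)
    | exact p (by decide) g66 (b66 r μ f h)
    | exact p (by decide) g48 (b48 r μ f h)

/-- A radical element of the twisted group conjugating a fixed lowest root element into the subgroup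
gives a fixed element. -/
theorem rad_fixed {r : GL chevE6.Idx K} (hr : r ∈ twistedE6 K q) (hR : r ∈ Rad K) {μ : K}
    (hμ : θ μ = μ) (hmem : r * Xr 0 μ * r⁻¹ ∈ H) : Fixed chevE6 θ (r * Xr 0 μ * r⁻¹) := by
  by_cases hμ0 : μ = 0
  · subst hμ0
    rw [xg_zero hC, mul_one, mul_inv_cancel]
    exact map_one _
  obtain ⟨f, hf⟩ := exists_coord hR
  have hd := dev_zero X θ hθ hH hV ⟨hr, hf, hμ, hμ0, hmem⟩
  obtain ⟨A, -, hA, -, e⟩ := exists_blocks X θ hθ hr hf fun k hk => hd k (List.mem_append_left _ hk)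
  have hrf : Fixed chevE6 θ r := e ▸ Fixed.mul θ hA (Fixed.mul θ
    (fixed_xg hC θ (sub_eq_zero.1 (hd 48 (by simp)))) (fixed_xg hC θ (sub_eq_zero.1 (hd 50 (by simp)))))
  exact Fixed.mul θ (Fixed.mul θ hrf (fixed_xg hC θ hμ)) (Fixed.inv θ hrf)

end Cfsg.Agent.SimpleFacts.TwistedSubfield
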